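import Cfsg.Agent.S4691
import Cfsg.Prelude.Def_BlockFusion

/-!
# Principal blocks and Brauer pairs (helper82)

Brauer's third main theorem for principal blocks in the language of `Def_BrauerPairs`:
for `p`-subgroups `Q ≤ P` of `G`, `(Q, B₀(C_G(Q))) ≤ (P, B₀(C_G(P)))`, and conjugation carries
principal blocks of centralizers to principal blocks.
-/

set_option autoImplicit false

namespace Cfsg.Agent.Lib.Helper82

open Cfsg Cfsg.Agent.Lib.Helper21 Cfsg.Agent.Lib.Helper83 Cfsg.Agent.Lib.Helper5
open Cfsg.Agent.S4691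
open scoped ComplexConjugate

section Transport

variable {K K' : Type*} [Group K] [Group K']

theorem index_centralizer_equiv (ψ : K ≃* K') (k : K) :
    (Subgroup.centralizer ({ψ k} : Set K')).index =
      (Subgroup.centralizer ({k} : Set K)).index := by
  have : Subgroup.centralizer ({ψ k} : Set K') =
      (Subgroup.centralizer ({k} : Set K)).map (ψ : K →* K') := by
    ext y
    simp only [Subgroup.mem_centralizer_iff, Set.mem_singleton_iff, forall_eq,
      Subgroup.mem_map]
    constructor
    · intro hy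
      refine ⟨ψ.symm y, ?_, by simp⟩
      apply ψ.injective
      simp [hy]
    · rintro ⟨w, hw, rfl⟩
      show ψ k * ψ w = ψ w * ψ k
      rw [← map_mul, hw, map_mul]
  rw [this, Subgroup.index_map_equiv]

theorem centralChar_comp_equiv (ψ : K ≃* K') (θ : K' → ℂ) (k : K) :
    centralChar (fun x => θ (ψ x)) k = centralChar θ (ψ k) := by
  show ((Subgroup.centralizer ({k} : Set K)).index : ℂ) * θ (ψ k) / θ (ψ 1) =
    ((Subgroup.centralizer ({ψ k} : Set K')).index : ℂ) * θ (ψ k) / θ 1
  rw [index_centralizer_equiv, map_one]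

theorem sameBlock_one_comp_equiv (M : Ideal AlgInt) (ψ : K ≃* K') (θ : K' → ℂ)
    (h : SameBlock M (fun _ : K' => (1:ℂ)) θ) :
    SameBlock M (fun _ : K => (1:ℂ)) (fun x => θ (ψ x)) := by
  intro k
  have h1 := h (ψ k)
  rw [centralChar_comp_equiv ψ θ k]
  have h2 : centralChar (fun _ : K => (1:ℂ)) k = centralChar (fun _ : K' => (1:ℂ)) (ψ k) :=
    centralChar_comp_equiv ψ (fun _ => (1:ℂ)) k
  rw [h2]; exact h1

/-- Composition with an isomorphism, as a map of irreducible characters. -/
noncomputable def irrComp (ψ : K ≃* K') (χ : IrrCharacter K') : IrrCharacter K :=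
  ⟨fun x => (χ : K' → ℂ) (ψ x),
    isIrrCharacter_comp_of_surjective χ.1 χ.2 ψ.toMonoidHom ψ.surjective⟩

theorem irrComp_apply (ψ : K ≃* K') (χ : IrrCharacter K') (x : K) :
    (irrComp ψ χ : K → ℂ) x = (χ : K' → ℂ) (ψ x) := rfl

theorem irrComp_mem_principal (M : Ideal AlgInt) (ψ : K ≃* K') (χ : IrrCharacter K')
    (h : χ ∈ principalBlock M K') : irrComp ψ χ ∈ principalBlock M K :=
  sameBlock_one_comp_equiv M ψ _ h

theorem irrComp_symm (ψ : K ≃* K') (χ : IrrCharacter K') :
    irrComp ψ.symm (irrComp ψ χ) = χ := by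
  apply Subtype.ext
  funext x
  show (χ : K' → ℂ) (ψ (ψ.symm x)) = (χ : K' → ℂ) x
  rw [MulEquiv.apply_symm_apply]

theorem irrComp_symm' (ψ : K ≃* K') (χ : IrrCharacter K) :
    irrComp ψ (irrComp ψ.symm χ) = χ := by
  apply Subtype.ext
  funext x
  show (χ : K → ℂ) (ψ.symm (ψ x)) = (χ : K → ℂ) x
  rw [MulEquiv.symm_apply_apply]

/-- The idempotent coefficients of the principal block are invariant under automorphisms. -/
theorem blockCoeff_principal_equiv (M : Ideal AlgInt) (φ : K ≃* K) (k : K) :
    blockCoeff (principalBlock M K) (φ k) = blockCoeff (principalBlock M K) k := by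
  unfold blockCoeff
  congr 1
  have himg : (irrComp φ) '' (principalBlock M K) = principalBlock M K := by
    ext χ
    constructor
    · rintro ⟨χ', hχ', rfl⟩; exact irrComp_mem_principal M φ χ' hχ'
    · intro hχ
      exact ⟨irrComp φ.symm χ, irrComp_mem_principal M φ.symm χ hχ, irrComp_symm' φ χ⟩
  have hinj : Set.InjOn (irrComp φ) (principalBlock M K) := by
    intro a _ b _ hab
    have := congrArg (irrComp φ.symm) hab
    rwa [irrComp_symm, irrComp_symm] at this
  calc ∑ᶠ χ ∈ principalBlock M K, (χ : K → ℂ) 1 * conj ((χ : K → ℂ) (φ k))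
      = ∑ᶠ χ ∈ principalBlock M K,
          (irrComp φ χ : K → ℂ) 1 * conj ((irrComp φ χ : K → ℂ) k) := by
        refine finsum_congr fun χ => finsum_congr fun _ => ?_
        rw [irrComp_apply, irrComp_apply, map_one]
    _ = ∑ᶠ χ ∈ (irrComp φ) '' principalBlock M K,
          (χ : K → ℂ) 1 * conj ((χ : K → ℂ) k) :=
        (finsum_mem_image (f := fun χ : IrrCharacter K =>
          (χ : K → ℂ) 1 * conj ((χ : K → ℂ) k)) hinj).symm
    _ = _ := by rw [himg]

end Transport

section Conj

variable {G : Type*} [Group G]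

/-- Conjugation by `g` as an isomorphism between two subgroups. -/
def conjEquiv (K K' : Subgroup G) (g : G) (h1 : ∀ c ∈ K, g * c * g⁻¹ ∈ K')
    (h2 : ∀ c ∈ K', g⁻¹ * c * g ∈ K) : K ≃* K' where
  toFun c := ⟨g * c * g⁻¹, h1 c c.2⟩
  invFun c := ⟨g⁻¹ * c * g, h2 c c.2⟩
  left_inv c := by ext; simp [mul_assoc]
  right_inv c := by ext; simp [mul_assoc]
  map_mul' a b := by ext; simp [mul_assoc]

theorem conjEquiv_coe (K K' : Subgroup G) (g : G) (h1 : ∀ c ∈ K, g * c * g⁻¹ ∈ K')
    (h2 : ∀ c ∈ K', g⁻¹ * c * g ∈ K) (c : K) :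
    ((conjEquiv K K' g h1 h2 c : K') : G) = g * c * g⁻¹ := rfl

theorem conjEquiv_symm_coe (K K' : Subgroup G) (g : G) (h1 : ∀ c ∈ K, g * c * g⁻¹ ∈ K')
    (h2 : ∀ c ∈ K', g⁻¹ * c * g ∈ K) (c : K') :
    (((conjEquiv K K' g h1 h2).symm c : K) : G) = g⁻¹ * c * g := rfl

theorem conj_mem_centralizer_of_normalizer (Q : Subgroup G) {t : G}
    (ht : t ∈ Subgroup.normalizer (Q : Set G)) {c : G}
    (hc : c ∈ Subgroup.centralizer (Q : Set G)) :
    t * c * t⁻¹ ∈ Subgroup.centralizer (Q : Set G) := by
  rw [Subgroup.mem_centralizer_iff] at hc ⊢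
  intro q hq
  have h1 : t⁻¹ * q * t ∈ Q := by
    have := (Subgroup.mem_normalizer_iff.mp (Subgroup.inv_mem _ ht) q).mp hq
    simpa using this
  have h2 := hc _ h1
  calc q * (t * c * t⁻¹) = t * (t⁻¹ * q * t * c) * t⁻¹ := by group
    _ = t * (c * (t⁻¹ * q * t)) * t⁻¹ := by rw [h2]
    _ = t * c * t⁻¹ * q := by group

theorem conj_inv_mem_centralizer_of_normalizer (Q : Subgroup G) {t : G}
    (ht : t ∈ Subgroup.normalizer (Q : Set G)) {c : G}
    (hc : c ∈ Subgroup.centralizer (Q : Set G)) :
    t⁻¹ * c * t ∈ Subgroup.centralizer (Q : Set G) := by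
  have := conj_mem_centralizer_of_normalizer Q (Subgroup.inv_mem _ ht) hc
  simpa using this

theorem conj_mem_centralizer_map (Q : Subgroup G) (g : G) {c : G}
    (hc : c ∈ Subgroup.centralizer (Q : Set G)) :
    g * c * g⁻¹ ∈ Subgroup.centralizer
      ((Q.map (MulAut.conj g).toMonoidHom : Subgroup G) : Set G) := by
  rw [Subgroup.mem_centralizer_iff] at hc ⊢
  rintro _ ⟨q, hq, rfl⟩
  have h2 := hc q hq
  show g * q * g⁻¹ * (g * c * g⁻¹) = g * c * g⁻¹ * (g * q * g⁻¹)
  calc g * q * g⁻¹ * (g * c * g⁻¹) = g * (q * c) * g⁻¹ := by group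
    _ = g * (c * q) * g⁻¹ := by rw [h2]
    _ = g * c * g⁻¹ * (g * q * g⁻¹) := by group

theorem conj_inv_mem_centralizer_of_map (Q : Subgroup G) (g : G) {c : G}
    (hc : c ∈ Subgroup.centralizer
      ((Q.map (MulAut.conj g).toMonoidHom : Subgroup G) : Set G)) :
    g⁻¹ * c * g ∈ Subgroup.centralizer (Q : Set G) := by
  rw [Subgroup.mem_centralizer_iff] at hc ⊢
  intro q hq
  have h1 : g * q * g⁻¹ ∈ ((Q.map (MulAut.conj g).toMonoidHom : Subgroup G) : Set G) :=
    ⟨q, hq, rfl⟩
  have h2 := hc _ h1
  calc q * (g⁻¹ * c * g) = g⁻¹ * (g * q * g⁻¹ * c) * g := by group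
    _ = g⁻¹ * (c * (g * q * g⁻¹)) * g := by rw [h2]
    _ = g⁻¹ * c * g * q := by group

/-- The conjugate of the principal block of `C_G(Q)` is the principal block of
`C_G(g Q g⁻¹)`. -/
theorem conjBlock_principal (M : Ideal AlgInt) (Q : Subgroup G) (g : G) :
    conjBlock Q g (principalBlock M (Subgroup.centralizer (Q : Set G))) =
      principalBlock M (Subgroup.centralizer
        ((Q.map (MulAut.conj g).toMonoidHom : Subgroup G) : Set G)) := by
  let ψ := conjEquiv (Subgroup.centralizer (Q : Set G))
    (Subgroup.centralizer ((Q.map (MulAut.conj g).toMonoidHom : Subgroup G) : Set G)) g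
    (fun c hc => conj_mem_centralizer_map Q g hc)
    (fun c hc => conj_inv_mem_centralizer_of_map Q g hc)
  ext ξ'
  constructor
  · rintro ⟨ξ, hξ, hrel⟩
    have h1 := irrComp_mem_principal M ψ.symm ξ hξ
    have h2 : irrComp ψ.symm ξ = ξ' := by
      apply Subtype.ext
      funext c'
      rw [irrComp_apply]
      refine (hrel (ψ.symm c') c' ?_).symm
      show (c' : G) = g * (g⁻¹ * c' * g) * g⁻¹
      group
    rw [← h2]; exact h1
  · intro hξ'
    refine ⟨irrComp ψ ξ', irrComp_mem_principal M ψ ξ' hξ', ?_⟩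
    intro c c' hcc'
    rw [irrComp_apply]
    have : ψ c = c' := Subtype.ext hcc'.symm
    rw [this]

end Conj

section Brauer

variable {G : Type*} [Group G] [Fintype G] {p : ℕ} {M : Ideal AlgInt}

/-- A general form of Brauer's third main theorem: a `P`-stable element `β` of the local group
ring with augmentation `≡ 1`, whose truncation to `C = C_G(P)` is central in the group ring of
`C`, has Brauer-map image on which the principal block of `C` takes the value `1`. -/
theorem brauer_third_general (hM : IsPModular p M) (P : Subgroup G) (hP : IsPGroup p P)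
    (C : Subgroup G) (hC : ∀ x, x ∈ C ↔ ∀ q ∈ P, q * x = x * q) (β : G → ℂ)
    (hβl : ∀ g, MemLocalRing M (β g))
    (hβP : ∀ r ∈ P, ∀ x, β (r * x * r⁻¹) = β x)
    (hβC : ∀ c ∈ C, ∀ x ∈ C, β (c * x * c⁻¹) = β x)
    (hβ1 : MemLocalIdeal M (∑ x : G, β x - 1))
    (ξ : IrrCharacter C) (hξ : ξ ∈ principalBlock M C) :
    MemLocalIdeal M ((∑ᶠ x : C, β x * (ξ : C → ℂ) x / (ξ : C → ℂ) 1) - 1) := by
  classical
  letI : Fintype C := Fintype.ofFinite C
  let b : C → ℂ := fun x => β x
  have hbc : IsClassFunction C b := fun g h => by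
    show β ((h * g * h⁻¹ : C) : G) = β g
    push_cast
    exact hβC h h.2 g g.2
  have hbl : ∀ g, MemLocalRing M (b g) := fun g => hβl g
  have h1 : (∑ᶠ x : C, β x * (ξ : C → ℂ) x / (ξ : C → ℂ) 1) = omega (ξ : C → ℂ) b := by
    rw [finsum_eq_sum_of_fintype, omega_def, Finset.sum_div]
  have h2 := omega_sub_locIdeal hM b hbc hbl (trivIrr C) ξ hξ
  have h3 : omega (trivIrr C : C → ℂ) b = ∑ x : C, β x := by
    rw [omega_def]; simp [trivIrr_apply, b]
  have h4 : ∑ x : C, β x = ∑ x : G, if x ∈ C then β x else 0 := by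
    rw [← Finset.sum_filter]
    exact (Finset.sum_subtype (Finset.univ.filter (· ∈ C)) (by simp) (fun x => β x)).symm
  have h5 : MemLocalIdeal M (∑ x : G, if x ∈ C then 0 else β x) := by
    letI : MulAction P G := MulAction.compHom G ((MulAut.conj : G →* MulAut G).comp P.subtype)
    have hsmul : ∀ (r : P) (x : G), r • x = (r : G) * x * (r : G)⁻¹ := fun r x => rfl
    have hfixC : ∀ (r : P) (x : G), x ∈ C → (r : G) * x * (r : G)⁻¹ = x := by
      intro r x hx
      have := (hC x).mp hx r r.2
      rw [this]; group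
    refine sum_locIdeal_of_pgroup_action hM hP (fun x => if x ∈ C then 0 else β x) ?_ ?_ ?_
    · intro r x
      have hiff : ((r : G) * x * (r : G)⁻¹ ∈ C) ↔ x ∈ C := by
        constructor
        · intro hy
          have h1 := hfixC r⁻¹ _ hy
          have h2 : ((r⁻¹ : P) : G) * ((r : G) * x * (r : G)⁻¹) * ((r⁻¹ : P) : G)⁻¹ = x := by
            push_cast; group
          rw [h2] at h1
          rw [h1]; exact hy
        · intro hx
          rw [hfixC r x hx]; exact hx
      show (if r • x ∈ C then (0:ℂ) else β (r • x)) = if x ∈ C then 0 else β x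
      rw [hsmul]
      simp only [hiff, hβP (r : G) r.2 x]
    · intro x
      show MemLocalRing M (if x ∈ C then 0 else β x)
      split_ifs
      · exact locRing_zero hM
      · exact hβl x
    · intro x hx
      have hxC : x ∈ C := by
        rw [hC]
        intro q hq
        have h1 := hx ⟨q, hq⟩
        rw [hsmul] at h1
        have h2 : q * x * q⁻¹ = x := h1
        calc q * x = q * x * q⁻¹ * q := by group
          _ = x * q := by rw [h2]
      show MemLocalIdeal M (if x ∈ C then 0 else β x)
      rw [if_pos hxC]; exact locIdeal_zero hM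
  have h7 : (∑ᶠ x : C, β x * (ξ : C → ℂ) x / (ξ : C → ℂ) 1) - 1 =
      -(omega (trivIrr C : C → ℂ) b - omega (ξ : C → ℂ) b) -
        (∑ x : G, if x ∈ C then 0 else β x) + (∑ x : G, β x - 1) := by
    rw [h1, h3, h4]
    have : ∑ x : G, β x = (∑ x : G, if x ∈ C then β x else 0) +
        ∑ x : G, if x ∈ C then 0 else β x := by
      rw [← Finset.sum_add_distrib]
      refine Finset.sum_congr rfl fun x _ => ?_
      split_ifs <;> simp
    rw [this]; ring
  rw [h7]
  exact locIdeal_add hM (locIdeal_sub hM (locIdeal_neg h2) h5) hβ1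

/-- Normal inclusion of principal-block Brauer pairs. -/
theorem normal_step_principal (hM : IsPModular p M) (Q P : Subgroup G) (hQ : IsPGroup p Q)
    (hP : IsPGroup p P) (hQP : Q ≤ P) (hPN : P ≤ Subgroup.normalizer (Q : Set G)) :
    IsNormalSubpair p M Q (principalBlock M (Subgroup.centralizer (Q : Set G))) P
      (principalBlock M (Subgroup.centralizer (P : Set G))) := by
  classical
  refine ⟨⟨hQ, principal_isPBlock M⟩, ⟨hP, principal_isPBlock M⟩, hQP, hPN,
    fun x hx => stabilizes_principal M Q x (hPN hx), fun ξ hξ => ?_⟩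
  have hCle : Subgroup.centralizer (P : Set G) ≤ Subgroup.centralizer (Q : Set G) :=
    Subgroup.centralizer_le hQP
  letI : Fintype (Subgroup.centralizer (Q : Set G)) := Fintype.ofFinite _
  have hin : ∀ g (h : g ∈ Subgroup.centralizer (Q : Set G)),
      subgroupBlockCoeff (Subgroup.centralizer (Q : Set G))
        (principalBlock M (Subgroup.centralizer (Q : Set G))) g =
      blockCoeff (principalBlock M (Subgroup.centralizer (Q : Set G))) ⟨g, h⟩ := by
    intro g h; unfold subgroupBlockCoeff; rw [dif_pos h]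
  have hout : ∀ g, g ∉ Subgroup.centralizer (Q : Set G) →
      subgroupBlockCoeff (Subgroup.centralizer (Q : Set G))
        (principalBlock M (Subgroup.centralizer (Q : Set G))) g = 0 := by
    intro g h; unfold subgroupBlockCoeff; rw [dif_neg h]
  refine brauer_third_general hM P hP (Subgroup.centralizer (P : Set G))
    (fun _ => Subgroup.mem_centralizer_iff)
    (subgroupBlockCoeff (Subgroup.centralizer (Q : Set G))
      (principalBlock M (Subgroup.centralizer (Q : Set G)))) ?_ ?_ ?_ ?_ ξ hξ
  · intro g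
    by_cases h : g ∈ Subgroup.centralizer (Q : Set G)
    · rw [hin g h]; exact osima hM _ (principal_isPBlock M) _
    · rw [hout g h]; exact locRing_zero hM
  · intro r hr x
    have hrN := hPN hr
    by_cases h : x ∈ Subgroup.centralizer (Q : Set G)
    · have h' := conj_mem_centralizer_of_normalizer Q hrN h
      rw [hin x h, hin _ h']
      exact blockCoeff_principal_equiv M
        (conjEquiv (Subgroup.centralizer (Q : Set G)) (Subgroup.centralizer (Q : Set G)) r
          (fun c hc => conj_mem_centralizer_of_normalizer Q hrN hc)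
          (fun c hc => conj_inv_mem_centralizer_of_normalizer Q hrN hc)) ⟨x, h⟩
    · have h' : r * x * r⁻¹ ∉ Subgroup.centralizer (Q : Set G) := by
        intro hh
        apply h
        have := conj_inv_mem_centralizer_of_normalizer Q hrN hh
        have h2 : r⁻¹ * (r * x * r⁻¹) * r = x := by group
        rwa [h2] at this
      rw [hout x h, hout _ h']
  · intro c hc x hx
    have hc' := hCle hc
    have hx' := hCle hx
    rw [hin x hx', hin _ (Subgroup.mul_mem _ (Subgroup.mul_mem _ hc' hx')
      (Subgroup.inv_mem _ hc'))]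
    exact blockCoeff_isClassFunction (principalBlock M (Subgroup.centralizer (Q : Set G)))
      (⟨x, hx'⟩ : Subgroup.centralizer (Q : Set G)) ⟨c, hc'⟩
  · have hsum : ∑ x : G, subgroupBlockCoeff (Subgroup.centralizer (Q : Set G))
        (principalBlock M (Subgroup.centralizer (Q : Set G))) x = 1 := by
      rw [← sum_blockCoeff_principal (G := Subgroup.centralizer (Q : Set G)) hM]
      have h1 : ∑ x : G, subgroupBlockCoeff (Subgroup.centralizer (Q : Set G))
          (principalBlock M (Subgroup.centralizer (Q : Set G))) x =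
          ∑ x : G, if x ∈ Subgroup.centralizer (Q : Set G) then
            subgroupBlockCoeff (Subgroup.centralizer (Q : Set G))
              (principalBlock M (Subgroup.centralizer (Q : Set G))) x else 0 := by
        refine Finset.sum_congr rfl fun x _ => ?_
        split_ifs with h
        · rfl
        · exact hout x h
      have h4 : ∑ x : Subgroup.centralizer (Q : Set G),
          subgroupBlockCoeff (Subgroup.centralizer (Q : Set G))
            (principalBlock M (Subgroup.centralizer (Q : Set G))) x =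
          ∑ x ∈ Finset.univ.filter (· ∈ Subgroup.centralizer (Q : Set G)),
            subgroupBlockCoeff (Subgroup.centralizer (Q : Set G))
              (principalBlock M (Subgroup.centralizer (Q : Set G))) x :=
        (Finset.sum_subtype (Finset.univ.filter (· ∈ Subgroup.centralizer (Q : Set G)))
          (by simp) (fun x => subgroupBlockCoeff (Subgroup.centralizer (Q : Set G))
              (principalBlock M (Subgroup.centralizer (Q : Set G))) x)).symm
      rw [h1, ← Finset.sum_filter, ← h4]
      refine Finset.sum_congr rfl fun x _ => ?_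
      exact hin x x.2
    rw [hsum, sub_self]; exact locIdeal_zero hM

/-- For `p`-subgroups `Q ≤ P`, the principal-block pair at `Q` lies below the principal-block
pair at `P`. -/
theorem subpairLE_principal [Fact p.Prime] (hM : IsPModular p M) (P : Subgroup G)
    (hP : IsPGroup p P) :
    ∀ (n : ℕ) (Q : Subgroup G), Q ≤ P → Nat.card P - Nat.card Q = n →
      SubpairLE p M Q (principalBlock M (Subgroup.centralizer (Q : Set G))) P
        (principalBlock M (Subgroup.centralizer (P : Set G))) := by
  intro n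
  induction n using Nat.strong_induction_on with
  | _ n ih =>
    intro Q hQP hn
    by_cases hQeq : Q = P
    · subst hQeq; exact Relation.ReflTransGen.refl
    · obtain ⟨x, hxP, hxN, hxQ⟩ :
          ∃ x, x ∈ P ∧ x ∈ Subgroup.normalizer (Q : Set G) ∧ x ∉ Q := by
        haveI : Group.IsNilpotent P := hP.isNilpotent
        have hnc := normalizerCondition_of_isNilpotent (G := P)
        have hlt' : Q.subgroupOf P < ⊤ := by
          rw [lt_top_iff_ne_top]
          intro h
          exact hQeq (le_antisymm hQP (Subgroup.subgroupOf_eq_top.mp h))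
        have h1 := hnc _ hlt'
        obtain ⟨y, hyN, hyQ⟩ := SetLike.exists_of_lt h1
        refine ⟨y, y.2, ?_, fun h => hyQ (Subgroup.mem_subgroupOf.mpr h)⟩
        rw [Subgroup.mem_normalizer_iff] at hyN ⊢
        intro h
        constructor
        · intro hh
          have := (hyN ⟨h, hQP hh⟩).mp (Subgroup.mem_subgroupOf.mpr hh)
          exact Subgroup.mem_subgroupOf.mp this
        · intro hh
          have hhP : h ∈ P := by
            have h1 : (y:G) * h * (y:G)⁻¹ ∈ P := hQP hh
            have h2 : h = (y:G)⁻¹ * ((y:G) * h * (y:G)⁻¹) * (y:G) := by group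
            rw [h2]; exact P.mul_mem (P.mul_mem (P.inv_mem y.2) h1) y.2
          have := (hyN ⟨h, hhP⟩).mpr (Subgroup.mem_subgroupOf.mpr hh)
          exact Subgroup.mem_subgroupOf.mp this
      have hQQ₁ : Q ≤ P ⊓ Subgroup.normalizer (Q : Set G) := le_inf hQP Subgroup.le_normalizer
      have hQ₁P : P ⊓ Subgroup.normalizer (Q : Set G) ≤ P := inf_le_left
      have hQ₁N : P ⊓ Subgroup.normalizer (Q : Set G) ≤ Subgroup.normalizer (Q : Set G) :=
        inf_le_right
      have hcard : Nat.card Q < Nat.card (P ⊓ Subgroup.normalizer (Q : Set G) : Subgroup G) := by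
        by_contra hcon
        rw [not_lt] at hcon
        have := Subgroup.eq_of_le_of_card_ge hQQ₁ hcon
        exact hxQ (this ▸ ⟨hxP, hxN⟩)
      have hcard2 : Nat.card (P ⊓ Subgroup.normalizer (Q : Set G) : Subgroup G) ≤ Nat.card P :=
        Subgroup.card_le_of_le hQ₁P
      have hstep := normal_step_principal hM Q (P ⊓ Subgroup.normalizer (Q : Set G))
        (hP.to_le hQP) (hP.to_le hQ₁P) hQQ₁ hQ₁N
      have hrest := ih (Nat.card P - Nat.card (P ⊓ Subgroup.normalizer (Q : Set G) : Subgroup G))
        (by omega) _ hQ₁P rfl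
      exact Relation.ReflTransGen.head
        (show NormalSubpairRel p M ⟨Q, principalBlock M (Subgroup.centralizer (Q : Set G))⟩
          ⟨P ⊓ Subgroup.normalizer (Q : Set G), principalBlock M _⟩ from hstep) hrest

end Brauer

/-- Along a chain of normal inclusions the subgroups grow and stay `p`-groups. -/
theorem subpairLE_le_pgroup {G : Type*} [Group G] {p : ℕ} {M : Ideal AlgInt}
    {a b : BrauerPairIdx G} (h : Relation.ReflTransGen (NormalSubpairRel p M) a b) :
    a.1 ≤ b.1 ∧ (a.1 = b.1 ∨ IsPGroup p b.1) := by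
  induction h with
  | refl => exact ⟨le_rfl, Or.inl rfl⟩
  | tail _ hbc ih => exact ⟨ih.1.trans hbc.2.2.1, Or.inr hbc.2.1.1⟩

end Cfsg.Agent.Lib.Helper82
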