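import Mathlib
import Cfsg.Agent.Lib.Helper82.PReg
import Cfsg.Agent.Lib.Helper4.CharClosure
import Cfsg.Agent.Lib.Helper4.CharExp
import Cfsg.Agent.Lib.Helper20.Clifford

/-!
# Restriction multiplicities and the principal block of a subgroup (helper82)

* `resMult H χ θ`: the multiplicity of `θ ∈ Irr(H)` in the restriction of `χ ∈ Irr(G)`.
* `degree_eq_sum_resMult`, `index_mul_degree_eq_sum`.
* `exists_over_principal`: every member of the principal block of a subgroup lies under a member
  of the principal block of the group.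
* `mem_principal_of_resMult`: for a normal subgroup, the constituents of the restriction of a
  member of the principal block lie in the principal block.
-/

set_option autoImplicit false

namespace Cfsg.Agent.Lib.Helper82

open Cfsg Cfsg.Agent.Lib.Helper4 Cfsg.Agent.Lib.Helper21 Cfsg.Agent.Lib.Helper22
open Cfsg.Agent.Lib.Helper79 Cfsg.Agent.Lib.Helper20
open scoped ComplexConjugate

section ResMult

variable {G : Type*} [Group G] [Fintype G] (H : Subgroup G) [Fintype H]

theorem exists_resMult (χ : IrrCharacter G) (θ : IrrCharacter H) :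
    ∃ k : ℕ, classInner (fun h : H => (χ : G → ℂ) h) (θ : H → ℂ) = (k : ℂ) := by
  classical
  haveI := Helper4.irr_finite (G := H)
  letI := Fintype.ofFinite (IrrCharacter H)
  exact classInner_isCharacter_nat _ (isCharacter_restrict H _ (isCharacter_of_irr χ)) θ

/-- The multiplicity of `θ` in the restriction of `χ` to `H`. -/
noncomputable def resMult (χ : IrrCharacter G) (θ : IrrCharacter H) : ℕ :=
  (exists_resMult H χ θ).choose

theorem resMult_spec (χ : IrrCharacter G) (θ : IrrCharacter H) :
    classInner (fun h : H => (χ : G → ℂ) h) (θ : H → ℂ) = (resMult H χ θ : ℂ) :=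
  (exists_resMult H χ θ).choose_spec

/-- The value of an induced function at the identity. -/
theorem indFun_at_one (θ : H → ℂ) : indFun H θ 1 = (H.index : ℂ) * θ 1 := by
  classical
  rw [indFun_apply]
  have h1 : ∀ x : G, extendByZero H θ (x⁻¹ * 1 * x) = θ 1 := by
    intro x
    have : x⁻¹ * 1 * x = ((1 : H) : G) := by simp
    rw [this, extendByZero_apply_mem]
  rw [Finset.sum_congr rfl (fun x _ => h1 x), Finset.sum_const, Finset.card_univ, nsmul_eq_mul]
  have h2 : (H.index : ℂ) * (Nat.card H : ℂ) = (Fintype.card G : ℂ) := by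
    rw [← Nat.cast_mul, Subgroup.index_mul_card, Nat.card_eq_fintype_card]
  have h3 : (Nat.card H : ℂ) ≠ 0 := by
    exact_mod_cast (Nat.card_pos (α := H)).ne'
  rw [← h2]
  field_simp

theorem degree_eq_sum_resMult [Fintype (IrrCharacter H)] (χ : IrrCharacter G) :
    charDegree (χ : G → ℂ) =
      ∑ θ : IrrCharacter H, resMult H χ θ * charDegree (θ : H → ℂ) := by
  have h1 := classFunction_expansion (fun h : H => (χ : G → ℂ) h)
    (isClassFunction_res H _ (isClassFunction_irr χ))
  have h2 := congrFun h1 1
  simp only [Finset.sum_apply, Pi.smul_apply, smul_eq_mul] at h2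
  apply Nat.cast_injective (R := ℂ)
  rw [(irr_charDegree χ).1, Nat.cast_sum]
  have h3 : (χ : G → ℂ) 1 = (χ : G → ℂ) ((1 : H) : G) := rfl
  rw [h3, h2]
  refine Finset.sum_congr rfl fun θ _ => ?_
  rw [resMult_spec, Nat.cast_mul, (irr_charDegree θ).1]

theorem index_mul_degree_eq_sum [Fintype (IrrCharacter G)] (θ : IrrCharacter H) :
    H.index * charDegree (θ : H → ℂ) =
      ∑ χ : IrrCharacter G, resMult H χ θ * charDegree (χ : G → ℂ) := by
  have h1 := classFunction_expansion (indFun H (θ : H → ℂ)) (isClassFunction_indFun H _)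
  have h2 := congrFun h1 1
  simp only [Finset.sum_apply, Pi.smul_apply, smul_eq_mul] at h2
  apply Nat.cast_injective (R := ℂ)
  rw [Nat.cast_mul, (irr_charDegree θ).1, ← indFun_at_one, h2, Nat.cast_sum]
  refine Finset.sum_congr rfl fun χ _ => ?_
  rw [Helper4.frobenius_reciprocity H _ _ (isClassFunction_irr χ), classInner_conj_symm,
    resMult_spec, Complex.conj_natCast, Nat.cast_mul, (irr_charDegree χ).1]

variable {p : ℕ} {M : Ideal AlgInt}

/-- Every member of the principal block of a subgroup is a constituent of the restriction of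
some member of the principal block of the group. -/
theorem exists_over_principal [Fact p.Prime] (hM : IsPModular p M) (θ : IrrCharacter H)
    (hθ : θ ∈ principalBlock M H) : ∃ χ ∈ principalBlock M G, resMult H χ θ ≠ 0 := by
  classical
  haveI := Helper4.irr_finite (G := G)
  letI := Fintype.ofFinite (IrrCharacter G)
  by_contra hcon
  push Not at hcon
  apply sum_pRegular_ne_zero hM θ hθ
  have hHne : (Nat.card H : ℂ) ≠ 0 := card_ne_zero H
  have h1 : (Nat.card G : ℂ) * ∑ h : H, pRegInd p G (h : G) * conj ((θ : H → ℂ) h) = 0 := by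
    rw [Finset.mul_sum]
    have e1 : ∀ h : H, (Nat.card G : ℂ) * (pRegInd p G (h : G) * conj ((θ : H → ℂ) h)) =
        ∑ χ : IrrCharacter G, (if χ ∈ principalBlock M G then
        (∑ k : G, pRegInd p G k * conj ((χ : G → ℂ) k)) * (χ : G → ℂ) (h : G) else 0) *
          conj ((θ : H → ℂ) h) := by
      intro h
      rw [← Finset.sum_mul, pRegInd_expansion hM (h : G)]
      ring
    rw [Finset.sum_congr rfl (fun h _ => e1 h), Finset.sum_comm]
    refine Finset.sum_eq_zero fun χ _ => ?_
    by_cases hχ : χ ∈ principalBlock M G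
    · simp only [if_pos hχ]
      have h2 := resMult_spec H χ θ
      rw [hcon χ hχ, Nat.cast_zero] at h2
      unfold classInner at h2
      have h3 : ∑ h : H, (χ : G → ℂ) (h : G) * conj ((θ : H → ℂ) h) = 0 := by
        rcases mul_eq_zero.mp h2 with h | h
        · exact absurd (inv_eq_zero.mp h) hHne
        · exact h
      have e2 : ∀ h : H, (∑ k : G, pRegInd p G k * conj ((χ : G → ℂ) k)) * (χ : G → ℂ) (h : G) *
          conj ((θ : H → ℂ) h) = (∑ k : G, pRegInd p G k * conj ((χ : G → ℂ) k)) *
          ((χ : G → ℂ) (h : G) * conj ((θ : H → ℂ) h)) := fun h => by ring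
      rw [Finset.sum_congr rfl (fun h _ => e2 h), ← Finset.mul_sum, h3, mul_zero]
    · simp only [if_neg hχ, zero_mul, Finset.sum_const_zero]
  have h2 : ∑ h : H, pRegInd p G (h : G) * conj ((θ : H → ℂ) h) = 0 := by
    rcases mul_eq_zero.mp h1 with h | h
    · exact absurd h (card_ne_zero G)
    · exact h
  have h3 := congrArg (starRingEnd ℂ) h2
  rw [map_sum, map_zero] at h3
  rw [← h3]
  refine Finset.sum_congr rfl fun h _ => ?_
  rw [map_mul, pRegInd_conj, Complex.conj_conj, pRegInd_res]

end ResMult

section Normal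

variable {G : Type*} [Group G] [Fintype G] (N : Subgroup G) [hN : N.Normal] [Fintype N]
variable {p : ℕ} {M : Ideal AlgInt}

omit [Fintype G] [Fintype N] in
/-- The principal block of a normal subgroup is stable under conjugation. -/
theorem principal_conj_stable (φ : IrrCharacter N) (hφ : φ ∈ principalBlock M N) (g : G) :
    irrConjFun N φ g ∈ principalBlock M N := by
  have h1 : SameBlock M (conjFun N (fun _ : N => (1 : ℂ)) g) (conjFun N (φ : N → ℂ) g) :=
    sameBlock_conjFun N hφ g
  exact h1

/-- For a normal subgroup, every constituent of the restriction of a member of the principal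
block lies in the principal block. -/
theorem mem_principal_of_resMult (hM : IsPModular p M) (χ : IrrCharacter G)
    (hχ : χ ∈ principalBlock M G) (θ : IrrCharacter N) (h : resMult N χ θ ≠ 0) :
    θ ∈ principalBlock M N := by
  classical
  haveI := Helper4.irr_finite (G := N)
  letI := Fintype.ofFinite (IrrCharacter N)
  obtain ⟨E, hEdef⟩ : ∃ E : G → ℂ, E = extendByZero N (blockCoeff (principalBlock M N)) :=
    ⟨_, rfl⟩
  have hEcf : IsClassFunction G E := by
    rw [hEdef]
    exact isClassFunction_extendByZero N _
      (blockCoeff_conj_invariant N _ (fun φ hφ g => principal_conj_stable N φ hφ g))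
  have hEloc : ∀ g, MemLocalRing M (E g) := by
    intro g
    rw [hEdef]
    by_cases hg : g ∈ N
    · rw [extendByZero_apply_mem' N _ hg]
      exact osima hM _ (Cfsg.Agent.S4691.principal_isPBlock M) _
    · rw [extendByZero_apply_not_mem N _ hg]
      exact locRing_zero hM
  have h1 := omega_sub_locIdeal hM E hEcf hEloc (Helper83.trivIrr G) χ hχ
  have h2 : omega (Helper83.trivIrr G : G → ℂ) E = 1 := by
    rw [omega_def, hEdef, sum_extendByZero_mul]
    have h3 := Cfsg.Agent.S4691.sum_blockCoeff_principal (G := N) hM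
    simp only [Helper83.trivIrr_apply, mul_one, div_one]
    exact h3
  have h4 : ∑ g : G, E g * (χ : G → ℂ) g = ∑ θ' : IrrCharacter N,
      (resMult N χ θ' : ℂ) * ((if θ' ∈ principalBlock M N then (1 : ℂ) else 0) *
        (θ' : N → ℂ) 1) := by
    rw [hEdef, sum_extendByZero_mul,
      sum_mul_expansion _ _ (isClassFunction_res N _ (isClassFunction_irr χ))]
    refine Finset.sum_congr rfl fun θ' _ => ?_
    rw [resMult_spec, omega_blockCoeff]
  -- some constituent lies in the principal block
  have hex : ∃ θ' : IrrCharacter N, θ' ∈ principalBlock M N ∧ resMult N χ θ' ≠ 0 := by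
    by_contra hcon
    push Not at hcon
    have h5 : ∑ g : G, E g * (χ : G → ℂ) g = 0 := by
      rw [h4]
      refine Finset.sum_eq_zero fun θ' _ => ?_
      by_cases hθ' : θ' ∈ principalBlock M N
      · rw [hcon θ' hθ', Nat.cast_zero, zero_mul]
      · rw [if_neg hθ', zero_mul, mul_zero]
    rw [h2, omega_def, h5, zero_div, sub_zero] at h1
    exact locIdeal_one_not hM h1
  obtain ⟨θ', hθ', hm⟩ := hex
  have hc1 : classInner (fun n : N => (χ : G → ℂ) n) (θ' : N → ℂ) ≠ 0 := by
    rw [resMult_spec]; exact_mod_cast hm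
  have hc2 : classInner (fun n : N => (χ : G → ℂ) n) (θ : N → ℂ) ≠ 0 := by
    rw [resMult_spec]; exact_mod_cast h
  obtain ⟨x, hx⟩ := clifford_conj N θ'.2 χ.2 hc1 θ.2 hc2
  have h6 : θ = irrConjFun N θ' x := Subtype.ext hx
  rw [h6]
  exact principal_conj_stable N θ' hθ' x

end Normal

end Cfsg.Agent.Lib.Helper82
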