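import Cfsg.Agent.Lib.Helper21.Loc2
import Mathlib.Algebra.CharP.Lemmas
import Mathlib.Algebra.Ring.GeomSum

/-!
# `p`-adic convergence in the local ring (helper82)

`PDiv M p m z` says that `z` is divisible by `p ^ m` in the local ring at `M`.  If `γ` is a
local integer congruent to `ε ∈ {0, 1}` modulo the local ideal then `γ ^ p ^ k` tends to `ε`
`p`-adically.
-/

set_option autoImplicit false

namespace Cfsg.Agent.Lib.Helper82

open Cfsg Cfsg.Agent.Lib.Helper21

variable {p : ℕ} {M : Ideal AlgInt}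

/-- `z` is divisible by `p ^ m` in the local ring at `M`. -/
def PDiv (M : Ideal AlgInt) (p m : ℕ) (z : ℂ) : Prop := MemLocalRing M (z / (p : ℂ) ^ m)

theorem pdiv_zero_iff (z : ℂ) : PDiv M p 0 z ↔ MemLocalRing M z := by
  unfold PDiv
  simp

theorem pdiv_of_zero (hM : IsPModular p M) (m : ℕ) : PDiv M p m 0 := by
  unfold PDiv
  rw [zero_div]
  exact locRing_zero hM

theorem pdiv_add (hM : IsPModular p M) {m : ℕ} {z w : ℂ} (hz : PDiv M p m z)
    (hw : PDiv M p m w) : PDiv M p m (z + w) := by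
  unfold PDiv at *
  rw [add_div]
  exact locRing_add hM hz hw

theorem pdiv_sub (hM : IsPModular p M) {m : ℕ} {z w : ℂ} (hz : PDiv M p m z)
    (hw : PDiv M p m w) : PDiv M p m (z - w) := by
  unfold PDiv at *
  rw [sub_div]
  exact locRing_sub hM hz hw

theorem pdiv_sum (hM : IsPModular p M) {ι : Type*} (s : Finset ι) (f : ι → ℂ) {m : ℕ}
    (h : ∀ i ∈ s, PDiv M p m (f i)) : PDiv M p m (∑ i ∈ s, f i) := by
  unfold PDiv at *
  rw [Finset.sum_div]
  exact locRing_sum hM _ _ h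

theorem pdiv_mul_left (hM : IsPModular p M) {m : ℕ} {z w : ℂ} (hw : MemLocalRing M w)
    (hz : PDiv M p m z) : PDiv M p m (w * z) := by
  unfold PDiv at *
  rw [mul_div_assoc]
  exact locRing_mul hM hw hz

theorem pdiv_mul_right (hM : IsPModular p M) {m : ℕ} {z w : ℂ} (hw : MemLocalRing M w)
    (hz : PDiv M p m z) : PDiv M p m (z * w) := by
  rw [mul_comm]
  exact pdiv_mul_left hM hw hz

theorem pdiv_mul (hM : IsPModular p M) {m m' : ℕ} {z w : ℂ} (hz : PDiv M p m z)
    (hw : PDiv M p m' w) : PDiv M p (m + m') (z * w) := by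
  unfold PDiv at *
  have h : z * w / (p : ℂ) ^ (m + m') = (z / (p : ℂ) ^ m) * (w / (p : ℂ) ^ m') := by
    rw [pow_add, div_mul_div_comm]
  rw [h]
  exact locRing_mul hM hz hw

theorem pdiv_mono (hM : IsPModular p M) {m m' : ℕ} (h : m' ≤ m) {z : ℂ} (hz : PDiv M p m z) :
    PDiv M p m' z := by
  unfold PDiv at *
  have hp0 : (p : ℂ) ≠ 0 := by exact_mod_cast (pmod_prime hM).ne_zero
  obtain ⟨d, rfl⟩ := Nat.exists_eq_add_of_le h
  have h1 : z / (p : ℂ) ^ m' = (p : ℂ) ^ d * (z / (p : ℂ) ^ (m' + d)) := by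
    rw [pow_add]
    field_simp
  rw [h1]
  exact locRing_mul hM (locRing_pow hM (locRing_natCast hM p) d) hz

theorem pdiv_locRing (hM : IsPModular p M) {m : ℕ} {z : ℂ} (hz : PDiv M p m z) :
    MemLocalRing M z :=
  (pdiv_zero_iff z).mp (pdiv_mono hM (Nat.zero_le m) hz)

theorem pdiv_natCast_pow (hM : IsPModular p M) (m : ℕ) : PDiv M p m ((p : ℂ) ^ m) := by
  unfold PDiv
  have hp0 : (p : ℂ) ≠ 0 := by exact_mod_cast (pmod_prime hM).ne_zero
  rw [div_self (pow_ne_zero m hp0)]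
  exact locRing_one hM

theorem pdiv_natCast_mul (hM : IsPModular p M) {N m : ℕ} (hN : N = p ^ m) {z : ℂ}
    (hz : MemLocalRing M z) : PDiv M p m ((N : ℂ) * z) := by
  rw [hN]
  push_cast
  exact pdiv_mul_right hM hz (pdiv_natCast_pow hM m)

/-! ### Nilpotency of the local ideal modulo `p` -/

theorem algInt_pow_dvd_aux (hM : IsPModular p M) (a : AlgInt) (ha : a ∈ M) :
    ∀ (n : ℕ) (f : Polynomial ℤ), f.natDegree = n → f.Monic → ∀ (e₀ : ℕ) (h : AlgInt),
      a ^ e₀ * Polynomial.aeval a f = (p : AlgInt) * h →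
      ∃ (e : ℕ) (g h' : AlgInt), g ∉ M ∧ a ^ e * g = (p : AlgInt) * h' := by
  intro n
  induction n with
  | zero =>
    intro f hdeg hmon e₀ h h0
    have h1 : f = 1 := hmon.natDegree_eq_zero.mp hdeg
    rw [h1] at h0
    refine ⟨e₀, 1, h, pmod_one_not_mem hM, ?_⟩
    simpa using h0
  | succ n ih =>
    intro f hdeg hmon e₀ h h0
    have h2 := Polynomial.divX_mul_X_add f
    have h3 : (algebraMap ℤ AlgInt) (f.coeff 0) = ((f.coeff 0 : ℤ) : AlgInt) := rfl
    by_cases hc : (p : ℤ) ∣ f.coeff 0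
    · obtain ⟨c', hc'⟩ := hc
      apply ih f.divX ?_ ?_ (e₀ + 1) (h - a ^ e₀ * (c' : AlgInt))
      · rw [← h2] at h0
        simp only [map_add, map_mul, Polynomial.aeval_X, Polynomial.aeval_C] at h0
        rw [h3, hc'] at h0
        push_cast at h0 ⊢
        linear_combination h0
      · rw [Polynomial.natDegree_divX_eq_natDegree_tsub_one, hdeg]; rfl
      · have h4 : f.divX.leadingCoeff = 1 := by
          unfold Polynomial.leadingCoeff
          rw [Polynomial.natDegree_divX_eq_natDegree_tsub_one, Polynomial.coeff_divX, hdeg]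
          have := hmon.coeff_natDegree
          rw [hdeg] at this
          simpa using this
        exact h4
    · refine ⟨e₀, Polynomial.aeval a f, h, ?_, h0⟩
      intro hmem
      rw [← h2] at hmem
      simp only [map_add, map_mul, Polynomial.aeval_X, Polynomial.aeval_C] at hmem
      have h4 : Polynomial.aeval a f.divX * a ∈ M := M.mul_mem_left _ ha
      have h5 : (algebraMap ℤ AlgInt) (f.coeff 0) ∈ M := (Ideal.add_mem_iff_right M h4).mp hmem
      rw [h3] at h5
      exact hc ((pmod_intCast_mem_iff hM _).mp h5)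

/-- Some power of an element of the local ideal is divisible by `p`. -/
theorem exists_pow_pdiv (hM : IsPModular p M) {δ : ℂ} (hδ : MemLocalIdeal M δ) :
    ∃ e : ℕ, PDiv M p 1 (δ ^ e) := by
  obtain ⟨a, b, ha, hb, rfl⟩ := hδ
  have hai : IsIntegral ℤ a := Algebra.IsIntegral.isIntegral a
  obtain ⟨e, g, h', hg, hgh⟩ := algInt_pow_dvd_aux hM a ha _ (minpoly ℤ a) rfl
    (minpoly.monic hai) 0 0 (by rw [minpoly.aeval]; simp)
  refine ⟨e, ?_⟩
  unfold PDiv
  have hbe : b ^ e ∉ M := fun hmem => hb ((pmod_isPrime hM).mem_of_pow_mem e hmem)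
  refine ⟨h', g * b ^ e, pmod_mul_not_mem hM hg hbe, ?_⟩
  have hg0 := pmod_ne_zero hg
  have hb0 := pmod_ne_zero hb
  have hp0 : (p : ℂ) ≠ 0 := by exact_mod_cast (pmod_prime hM).ne_zero
  have h1 : (a : ℂ) ^ e * (g : ℂ) = (p : ℂ) * (h' : ℂ) := by
    have := congrArg (Subtype.val) hgh
    simpa using this
  push_cast
  rw [pow_one, div_pow]
  field_simp
  linear_combination (-1 : ℂ) * h1

theorem pdiv_pow_mul (hM : IsPModular p M) {δ : ℂ} {e : ℕ} (h : PDiv M p 1 (δ ^ e)) (m : ℕ) :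
    PDiv M p m (δ ^ (e * m)) := by
  induction m with
  | zero =>
    rw [Nat.mul_zero, pow_zero]
    exact (pdiv_zero_iff _).mpr (locRing_one hM)
  | succ m ih =>
    rw [Nat.mul_succ, pow_add]
    exact pdiv_mul hM ih h

/-- Powers of an element of the local ideal tend to zero `p`-adically. -/
theorem pdiv_pow_of_locIdeal (hM : IsPModular p M) {γ : ℂ} (hγ : MemLocalIdeal M γ) (m : ℕ) :
    ∃ k₀ : ℕ, ∀ k, k₀ ≤ k → PDiv M p m (γ ^ (p ^ k)) := by
  obtain ⟨e, he⟩ := exists_pow_pdiv hM hγ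
  refine ⟨e * m, fun k hk => ?_⟩
  have hp := pmod_prime hM
  have h1 : e * m ≤ p ^ k := le_trans hk (Nat.lt_pow_self hp.one_lt).le
  obtain ⟨d, hd⟩ := Nat.exists_eq_add_of_le h1
  rw [hd, pow_add]
  exact pdiv_mul_right hM (locRing_pow hM (locIdeal_locRing hγ) d) (pdiv_pow_mul hM he m)

theorem pdiv_pow_sub_one_of_pdiv (hM : IsPModular p M) {x : ℂ} {m : ℕ}
    (h : PDiv M p m (x - 1)) (hx : MemLocalRing M x) (n : ℕ) : PDiv M p m (x ^ n - 1) := by
  rw [← mul_geom_sum x n]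
  exact pdiv_mul_right hM (locRing_sum hM _ _ fun l _ => locRing_pow hM hx l) h

theorem pdiv_pow_sub_one_step (hM : IsPModular p M) {x : ℂ} {j : ℕ} (hj : 1 ≤ j)
    (h : PDiv M p j (x - 1)) : PDiv M p (j + 1) (x ^ p - 1) := by
  have hx1 : PDiv M p 1 (x - 1) := pdiv_mono hM hj h
  have hx : MemLocalRing M x := by
    have := locRing_add hM (pdiv_locRing hM h) (locRing_one hM)
    simpa using this
  rw [← mul_geom_sum x p]
  refine pdiv_mul hM h ?_
  have h2 : ∑ i ∈ Finset.range p, x ^ i = ∑ i ∈ Finset.range p, (x ^ i - 1) + (p : ℂ) := by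
    rw [Finset.sum_sub_distrib]
    simp
  rw [h2]
  refine pdiv_add hM (pdiv_sum hM _ _ fun i _ => pdiv_pow_sub_one_of_pdiv hM hx1 hx i) ?_
  have := pdiv_natCast_pow hM (p := p) (M := M) 1
  simpa using this

/-- Powers of an element congruent to `1` modulo the local ideal tend to `1` `p`-adically. -/
theorem pdiv_pow_sub_one (hM : IsPModular p M) {γ : ℂ} (hγ : MemLocalIdeal M (γ - 1)) (m : ℕ) :
    ∃ k₀ : ℕ, ∀ k, k₀ ≤ k → PDiv M p m (γ ^ (p ^ k) - 1) := by
  have hp := pmod_prime hM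
  have hδR : MemLocalRing M (γ - 1) := locIdeal_locRing hγ
  have hγR : MemLocalRing M γ := by
    have := locRing_add hM hδR (locRing_one hM)
    simpa using this
  obtain ⟨e, he⟩ := exists_pow_pdiv hM hγ
  have h1 : PDiv M p 1 (γ ^ (p ^ e) - 1) := by
    have h2 := add_pow_prime_pow_eq hp (1 : ℂ) (γ - 1) e
    have h3 : (1 : ℂ) + (γ - 1) = γ := by ring
    rw [h3] at h2
    obtain ⟨S, hS⟩ : ∃ S : ℂ, S = ∑ k ∈ Finset.Ioo 0 (p ^ e), (1 : ℂ) ^ (k - 1) *
        (γ - 1) ^ (p ^ e - k - 1) * ((((p ^ e).choose k / p : ℕ) : ℕ) : ℂ) := ⟨_, rfl⟩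
    rw [← hS] at h2
    have hSR : MemLocalRing M S := by
      rw [hS]
      refine locRing_sum hM _ _ fun k _ => ?_
      exact locRing_mul hM (locRing_mul hM (locRing_pow hM (locRing_one hM) _)
        (locRing_pow hM hδR _)) (locRing_natCast hM _)
    have h4 : γ ^ p ^ e - 1 = (γ - 1) ^ p ^ e + (p : ℂ) ^ 1 * ((γ - 1) * S) := by
      rw [h2]
      ring
    rw [h4]
    refine pdiv_add hM ?_ (pdiv_mul_right hM (locRing_mul hM hδR hSR) (pdiv_natCast_pow hM 1))
    have h5 : e ≤ p ^ e := (Nat.lt_pow_self hp.one_lt).le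
    obtain ⟨d, hd⟩ := Nat.exists_eq_add_of_le h5
    rw [hd, pow_add]
    exact pdiv_mul_right hM (locRing_pow hM hδR d) he
  have h5 : ∀ j : ℕ, PDiv M p (j + 1) (γ ^ (p ^ (e + j)) - 1) := by
    intro j
    induction j with
    | zero => simpa using h1
    | succ j ih =>
      have h6 := pdiv_pow_sub_one_step hM (Nat.succ_le_succ (Nat.zero_le j)) ih
      rw [← pow_mul, ← pow_succ] at h6
      exact h6
  refine ⟨e + m, fun k hk => ?_⟩
  obtain ⟨d, rfl⟩ := Nat.exists_eq_add_of_le hk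
  have h6 := pdiv_mono hM (Nat.le_succ m) (h5 m)
  have h7 := pdiv_pow_sub_one_of_pdiv hM h6 (locRing_pow hM hγR _) (p ^ d)
  rw [← pow_mul, ← pow_add] at h7
  exact h7

end Cfsg.Agent.Lib.Helper82
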