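import Mathlib
import Cfsg.Agent.Lib.Helper82.PAdic
import Cfsg.Agent.Lib.Helper82.StrongOrth
import Cfsg.Agent.Lib.Helper82.CharCore
import Cfsg.Agent.Lib.Helper22.BrauerHom
import Cfsg.Agent.Lib.Helper22.BlockOrth
import Cfsg.Agent.Lib.Helper22.IndBlock

/-!
# Block orthogonality inside a `p`-section (helper82)

An elementary form of Brauer's second main theorem.  Let `u` be a `p`-element of `G`,
`C = C_G(u)`, `B` a block of `G` and `x`, `y ∈ C` with `p`-part `u`.  Then
`∑ χ ∈ B, conj (χ x) * χ y = ∑ ψ ∈ A, conj (ψ x) * ψ y` where `A` is the set of irreducible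
characters `ψ` of `C` whose central character does not kill the Brauer image of the block
idempotent of `B`.

The proof counts fixed points of the twisted cyclic shift on words of length `p ^ k`: the words
not contained in `C` fall into orbits of length divisible by `p ^ k`.
-/

set_option autoImplicit false

namespace Cfsg.Agent.Lib.Helper82

open Cfsg Cfsg.Agent.Lib.Helper4 Cfsg.Agent.Lib.Helper21 Cfsg.Agent.Lib.Helper22
open scoped ComplexConjugate

universe u

section Chain

variable {G : Type u} [Group G] [Fintype G]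

/-- Convolution powers: `rp c m` is the `(m + 1)`-fold convolution power of `c`. -/
noncomputable def rp (c : G → ℂ) : ℕ → G → ℂ
  | 0 => c
  | m + 1 => conv (rp c m) c

theorem rp_zero (c : G → ℂ) : rp c 0 = c := rfl

theorem rp_succ (c : G → ℂ) (m : ℕ) : rp c (m + 1) = conv (rp c m) c := rfl

theorem rp_isClassFunction {c : G → ℂ} (hc : IsClassFunction G c) (m : ℕ) :
    IsClassFunction G (rp c m) := by
  induction m with
  | zero => exact hc
  | succ m ih => exact conv_isClassFunction ih hc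

theorem omega_rp (χ : IrrCharacter G) {c : G → ℂ} (hc : IsClassFunction G c) (m : ℕ) :
    omega (χ : G → ℂ) (rp c m) = omega (χ : G → ℂ) c ^ (m + 1) := by
  induction m with
  | zero => rw [rp_zero, pow_one]
  | succ m ih =>
    rw [rp_succ, omega_conv χ _ _ (rp_isClassFunction hc m) hc, ih]
    ring

theorem chain_sum_gen (c : G → ℂ) : ∀ (n : ℕ) (F : G → G → ℂ),
    ∑ v : Fin (n + 2) → G, F (v 0) (v (Fin.last (n + 1))) *
        ∏ i : Fin (n + 1), c ((v i.castSucc)⁻¹ * v i.succ) =
      ∑ u, ∑ z, F u z * rp c n (u⁻¹ * z) := by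
  intro n
  induction n with
  | zero =>
    intro F
    rw [← (finTwoArrowEquiv G).symm.sum_comp, Fintype.sum_prod_type]
    simp [rp_zero]
  | succ n ih =>
    intro F
    rw [← (Fin.snocEquiv (fun _ : Fin (n + 3) => G)).sum_comp, Fintype.sum_prod_type]
    have key : ∀ (z : G) (v' : Fin (n + 2) → G),
        F (Fin.snocEquiv (fun _ : Fin (n + 3) => G) (z, v') 0)
            (Fin.snocEquiv (fun _ : Fin (n + 3) => G) (z, v') (Fin.last (n + 2))) *
          ∏ i : Fin (n + 2), c ((Fin.snocEquiv (fun _ : Fin (n + 3) => G) (z, v') i.castSucc)⁻¹ *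
            Fin.snocEquiv (fun _ : Fin (n + 3) => G) (z, v') i.succ) =
        (F (v' 0) z * c ((v' (Fin.last (n + 1)))⁻¹ * z)) *
          ∏ i : Fin (n + 1), c ((v' i.castSucc)⁻¹ * v' i.succ) := by
      intro z v'
      rw [Fin.prod_univ_castSucc]
      have e0 : Fin.snocEquiv (fun _ : Fin (n + 3) => G) (z, v') 0 = v' 0 := by
        have : (0 : Fin (n + 3)) = Fin.castSucc 0 := rfl
        rw [this]
        simp [Fin.snocEquiv]
      have e1 : Fin.snocEquiv (fun _ : Fin (n + 3) => G) (z, v') (Fin.last (n + 2)) = z := by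
        simp [Fin.snocEquiv]
      have e2 : ∀ i : Fin (n + 2),
          Fin.snocEquiv (fun _ : Fin (n + 3) => G) (z, v') i.castSucc = v' i := by
        intro i
        simp [Fin.snocEquiv]
      rw [e0, e1]
      have e3 : ∀ i : Fin (n + 1), (i.castSucc).succ = (i.succ).castSucc := fun i => rfl
      have e4 : (Fin.last (n + 1)).succ = Fin.last (n + 2) := rfl
      simp only [e2, e3, e4, e1]
      ring
    simp only [key]
    have ih' : ∀ z : G, ∑ v' : Fin (n + 2) → G,
        (F (v' 0) z * c ((v' (Fin.last (n + 1)))⁻¹ * z)) *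
          ∏ i : Fin (n + 1), c ((v' i.castSucc)⁻¹ * v' i.succ) =
        ∑ u, ∑ w, (F u z * c (w⁻¹ * z)) * rp c n (u⁻¹ * w) :=
      fun z => ih (fun u w => F u z * c (w⁻¹ * z))
    rw [Finset.sum_congr rfl (fun z _ => ih' z)]
    rw [Finset.sum_comm]
    refine Finset.sum_congr rfl fun u _ => ?_
    refine Finset.sum_congr rfl fun z _ => ?_
    rw [rp_succ, conv_apply, Finset.mul_sum, ← Equiv.sum_comp (Equiv.mulLeft u)]
    refine Finset.sum_congr rfl fun w _ => ?_
    simp only [Equiv.coe_mulLeft]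
    have e5 : (u * w)⁻¹ * z = w⁻¹ * (u⁻¹ * z) := by group
    have e6 : u⁻¹ * (u * w) = w := by group
    rw [e5, e6]
    ring

/-- Fourier expansion of a twisted trace of a class function. -/
theorem twisted_sum_fourier [Fintype (IrrCharacter G)] (f : G → ℂ) (hf : IsClassFunction G f)
    (x y : G) :
    ∑ t, f (t⁻¹ * x * t * y⁻¹) =
      ∑ χ : IrrCharacter G, omega (χ : G → ℂ) f * (conj ((χ : G → ℂ) x) * (χ : G → ℂ) y) := by
  classical
  have hG : (Nat.card G : ℂ) ≠ 0 := card_ne_zero G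
  have h0 : ∑ t, f (t⁻¹ * x * t * y⁻¹) = ∑ t, f (t * x * t⁻¹ * y⁻¹) := by
    rw [← Equiv.sum_comp (Equiv.inv G)]
    simp
  rw [h0]
  simp only [classFunction_fourier f hf, ← Finset.mul_sum]
  rw [Finset.sum_comm, Finset.mul_sum]
  refine Finset.sum_congr rfl fun χ _ => ?_
  rw [← Finset.mul_sum, ← Finset.mul_sum, ← map_sum, irr_sum_conj_mul,
    Cfsg.Agent.Lib.Helper82.irr_inv χ y]
  simp only [map_div₀, map_mul, map_natCast, Complex.conj_conj, irr_one_conj]
  have h1 : (χ : G → ℂ) 1 ≠ 0 := Cfsg.Agent.Lib.Helper82.irr_one_ne_zero χ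
  field_simp

/-- The sum of the weights of all words in terms of characters. -/
theorem sum_wwt_eq [Fintype (IrrCharacter G)] (c : G → ℂ) (hc : IsClassFunction G c) (x y : G)
    (n : ℕ) :
    ∑ v : Fin (n + 2) → G, wwt x y n c v =
      ∑ χ : IrrCharacter G, omega (χ : G → ℂ) c ^ (n + 2) *
        (conj ((χ : G → ℂ) x) * (χ : G → ℂ) y) := by
  simp only [wwt_eq]
  rw [chain_sum_gen c n (fun u z => c (z⁻¹ * (x * u * y⁻¹)))]
  have h1 : ∀ u, ∑ z, c (z⁻¹ * (x * u * y⁻¹)) * rp c n (u⁻¹ * z) =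
      rp c (n + 1) (u⁻¹ * x * u * y⁻¹) := by
    intro u
    rw [rp_succ, conv_apply, ← Equiv.sum_comp (Equiv.mulLeft u)]
    refine Finset.sum_congr rfl fun w _ => ?_
    simp only [Equiv.coe_mulLeft]
    have e5 : (u * w)⁻¹ * (x * u * y⁻¹) = w⁻¹ * (u⁻¹ * x * u * y⁻¹) := by group
    have e6 : u⁻¹ * (u * w) = w := by group
    rw [e5, e6]
    ring
  rw [Finset.sum_congr rfl fun u _ => h1 u,
    twisted_sum_fourier _ (rp_isClassFunction hc (n + 1)) x y]
  refine Finset.sum_congr rfl fun χ _ => ?_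
  rw [omega_rp χ hc]

end Chain

section Orbit

variable {G : Type u} [Group G]

/-- If a word has a twisted period not divisible by its length `p ^ k`, all its letters
centralize `u`. -/
theorem wshift_period_cent {p : ℕ} (hp : p.Prime) (x y u : G) (n k : ℕ) (hn : p ^ k = n + 2)
    (hxy : ∀ c : ℕ, ¬ p ∣ c → ∃ j : ℕ, x ^ (c * j) = u ∧ y ^ (c * j) = u)
    (v : Fin (n + 2) → G) (c : ℕ) (hc : c ≠ 0) (h : (wshift x y n)^[c] v = v)
    (hnd : ¬ (n + 2) ∣ c) (j : Fin (n + 2)) : v j * u = u * v j := by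
  obtain ⟨e, c', hc', rfl⟩ := Nat.exists_eq_pow_mul_and_not_dvd hc p hp.ne_one
  have hek : e < k := by
    by_contra hek
    rw [not_lt] at hek
    apply hnd
    rw [← hn]
    exact Dvd.dvd.mul_right (pow_dvd_pow p hek) c'
  have hper : Function.IsPeriodicPt (wshift x y n) (p ^ e * c') v := h
  have hper2 : Function.IsPeriodicPt (wshift x y n) (c' * (n + 2)) v := by
    have := hper.mul_const (p ^ (k - e))
    have he : p ^ e * c' * p ^ (k - e) = c' * (n + 2) := by
      rw [← hn, show k = e + (k - e) by omega, pow_add]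
      have : e + (k - e) - e = k - e := by omega
      rw [this]
      ring
    rwa [he] at this
  have h1 := wext_iterate x y n v (c' * (n + 2)) j
  rw [hper2, wext_add_mul, wext_lt] at h1
  have h2 : ∀ i : ℕ, v j = x ^ (c' * i) * v j * (y ^ (c' * i))⁻¹ := by
    intro i
    induction i with
    | zero => simp
    | succ i ih =>
      rw [Nat.mul_succ, pow_add, pow_add]
      calc v j = x ^ (c' * i) * (x ^ c' * v j * (y ^ c')⁻¹) * (y ^ (c' * i))⁻¹ := by
            rw [← h1]; exact ih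
        _ = x ^ (c' * i) * x ^ c' * v j * (y ^ (c' * i) * y ^ c')⁻¹ := by
            simp only [mul_inv_rev, mul_assoc]
  obtain ⟨i, hxi, hyi⟩ := hxy c' hc'
  have h3 := h2 i
  rw [hxi, hyi] at h3
  calc v j * u = u * v j * u⁻¹ * u := by rw [← h3]
    _ = u * v j := by group

/-- Words all of whose letters lie in the subgroup `C`. -/
def allMem (C : Subgroup G) (n : ℕ) (v : Fin (n + 2) → G) : Prop := ∀ j, v j ∈ C

/-- Words in `C` as words of the group `C`. -/
def allMemEquiv (C : Subgroup G) (n : ℕ) :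
    {v : Fin (n + 2) → G // allMem C n v} ≃ (Fin (n + 2) → C) where
  toFun v := fun j => ⟨v.1 j, v.2 j⟩
  invFun w := ⟨fun j => (w j : G), fun j => (w j).2⟩
  left_inv _ := rfl
  right_inv _ := rfl

theorem wext_coe (C : Subgroup G) (x y : C) (n : ℕ) (w : Fin (n + 2) → C) (m : ℕ) :
    ((wext x y n w m : C) : G) = wext (x : G) (y : G) n (fun j => (w j : G)) m := by
  unfold wext
  simp

theorem wext_mem (C : Subgroup G) {x y : G} (hx : x ∈ C) (hy : y ∈ C) (n : ℕ)
    {v : Fin (n + 2) → G} (hv : allMem C n v) (m : ℕ) : wext x y n v m ∈ C := by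
  unfold wext
  exact mul_mem (mul_mem (pow_mem hx _) (hv _)) (inv_mem (pow_mem hy _))

theorem allMem_wshift_iff (C : Subgroup G) {x y : G} (hx : x ∈ C) (hy : y ∈ C) (n : ℕ)
    (v : Fin (n + 2) → G) : allMem C n (wshift x y n v) ↔ allMem C n v := by
  constructor
  · intro h j
    have h1 : v j = x⁻¹ * wext x y n (wshift x y n v) (j + (n + 1)) * y := by
      rw [wext_shift]
      have h2 := wext_add_mul x y n v j 1
      rw [show (j : ℕ) + (n + 1) + 1 = j + 1 * (n + 2) by omega, h2, wext_lt]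
      simp [mul_assoc]
    rw [h1]
    exact mul_mem (mul_mem (inv_mem hx) (wext_mem C hx hy n h _)) hy
  · intro h j
    exact wext_mem C hx hy n h _

end Orbit

section Main

variable {G : Type u} [Group G] [Fintype G] {p : ℕ} {M : Ideal AlgInt}

/-- The sum of the weights of all words of length `p ^ k` in `G` is congruent modulo `p ^ k`
to the sum over the words in `C = C_G(u)`. -/
theorem orbit_congr (hM : IsPModular p M) (a : G → ℂ) (ha : IsLocClass M a) (u : G)
    (C : Subgroup G) [Fintype C] (hC : ∀ g, g ∈ C ↔ g * u = u * g) (x y : C)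
    (hxy : ∀ c : ℕ, ¬ p ∣ c → ∃ j : ℕ, (x : G) ^ (c * j) = u ∧ (y : G) ^ (c * j) = u)
    (k n : ℕ) (hn : p ^ k = n + 2) :
    PDiv M p k (∑ v : Fin (n + 2) → G, wwt (x : G) (y : G) n a v -
      ∑ w : Fin (n + 2) → C, wwt x y n (fun c : C => a c) w) := by
  classical
  have hp := pmod_prime hM
  let σ : Equiv.Perm (Fin (n + 2) → G) :=
    Equiv.ofBijective (wshift (x : G) (y : G) n)
      (Finite.injective_iff_bijective.mp (wshift_injective (x : G) (y : G) n))
  have hσ : ∀ (c : ℕ) (v : Fin (n + 2) → G), (σ ^ c) v = (wshift (x : G) (y : G) n)^[c] v := by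
    intro c v
    rw [← Equiv.Perm.iterate_eq_pow]
    rfl
  have hiff : ∀ v, ¬ allMem C n (σ v) ↔ ¬ allMem C n v := fun v =>
    not_congr (allMem_wshift_iff C x.2 y.2 n v)
  let σ' : Equiv.Perm {v : Fin (n + 2) → G // ¬ allMem C n v} := σ.subtypePerm hiff
  have hσ' : ∀ (c : ℕ) (v : {v : Fin (n + 2) → G // ¬ allMem C n v}),
      (((σ' ^ c) v : {v : Fin (n + 2) → G // ¬ allMem C n v}) : Fin (n + 2) → G) =
        (σ ^ c) v.1 := by
    intro c v
    simp only [σ', Equiv.Perm.subtypePerm_pow, Equiv.Perm.subtypePerm_apply]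
  obtain ⟨s, m, hs⟩ := sum_perm_invariant σ'
    (fun v => wwt (x : G) (y : G) n a v.1)
    (fun v => wwt_shift (x : G) (y : G) n a ha.1 v.1) (n + 2)
    (fun v c hc h => by
      by_contra hnd
      apply v.2
      intro j
      rw [hC]
      refine wshift_period_cent hp (x : G) (y : G) u n k hn hxy v.1 c hc ?_ hnd j
      rw [← hσ, ← hσ', h])
  have hsplit : ∑ v : Fin (n + 2) → G, wwt (x : G) (y : G) n a v =
      ∑ v : {v : Fin (n + 2) → G // allMem C n v}, wwt (x : G) (y : G) n a v.1 +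
        ∑ v : {v : Fin (n + 2) → G // ¬ allMem C n v}, wwt (x : G) (y : G) n a v.1 :=
    (Fintype.sum_subtype_add_sum_subtype (allMem C n) _).symm
  have hCpart : ∑ v : {v : Fin (n + 2) → G // allMem C n v}, wwt (x : G) (y : G) n a v.1 =
      ∑ w : Fin (n + 2) → C, wwt x y n (fun c : C => a c) w := by
    refine Fintype.sum_equiv (allMemEquiv C n) _ _ ?_
    intro v
    unfold wwt
    refine Finset.prod_congr rfl fun j _ => ?_
    have hw : ∀ m, ((wext x y n (allMemEquiv C n v) m : C) : G) =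
        wext (x : G) (y : G) n v.1 m := fun m => wext_coe C x y n _ m
    rw [← hw, ← hw]
    simp
  rw [hsplit, hCpart, add_sub_cancel_left, hs]
  refine pdiv_natCast_mul hM hn.symm ?_
  refine locRing_sum hM _ _ fun v _ => locRing_mul hM (locRing_natCast hM _) ?_
  exact locRing_prod hM _ _ fun j _ => ha.2 _

/-- Character form of `orbit_congr`. -/
theorem sect_congr [Fintype (IrrCharacter G)] (hM : IsPModular p M) (a : G → ℂ)
    (ha : IsLocClass M a) (u : G) (C : Subgroup G) [Fintype C] [Fintype (IrrCharacter C)]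
    (hC : ∀ g, g ∈ C ↔ g * u = u * g) (x y : C)
    (hxy : ∀ c : ℕ, ¬ p ∣ c → ∃ j : ℕ, (x : G) ^ (c * j) = u ∧ (y : G) ^ (c * j) = u)
    (k : ℕ) (hk : 1 ≤ k) :
    PDiv M p k (∑ χ : IrrCharacter G, omega (χ : G → ℂ) a ^ (p ^ k) *
        (conj ((χ : G → ℂ) x) * (χ : G → ℂ) y) -
      ∑ ψ : IrrCharacter C, omega (ψ : C → ℂ) (fun c : C => a c) ^ (p ^ k) *
        (conj ((ψ : C → ℂ) x) * (ψ : C → ℂ) y)) := by
  have hp := pmod_prime hM
  obtain ⟨n, hn⟩ : ∃ n, p ^ k = n + 2 := by
    have h2 : 2 ≤ p ^ k := le_trans hp.two_le (Nat.le_self_pow (by omega) p)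
    exact ⟨p ^ k - 2, by omega⟩
  have hcC : IsClassFunction C (fun c : C => a c) := by
    intro g h
    show a ((h * g * h⁻¹ : C) : G) = a g
    have : ((h * g * h⁻¹ : C) : G) = (h : G) * g * (h : G)⁻¹ := by simp
    rw [this, ha.1]
  have h1 := orbit_congr hM a ha u C hC x y hxy k n hn
  rw [sum_wwt_eq a ha.1, sum_wwt_eq _ hcC, ← hn] at h1
  exact h1

/-- The irreducible characters of `C` whose central character does not kill the restriction
to `C` of the idempotent of `B`. -/
def sectSet (M : Ideal AlgInt) (B : Set (IrrCharacter G)) (C : Subgroup G) [Fintype C] :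
    Set (IrrCharacter C) :=
  {ψ | ¬ MemLocalIdeal M (omega (ψ : C → ℂ) (fun c : C => blockCoeff B c))}

theorem omega_locIdeal (hM : IsPModular p M) (χ : IrrCharacter G) {z : G → ℂ}
    (hz : IsClassFunction G z) (hz' : ∀ g, MemLocalIdeal M (z g)) :
    MemLocalIdeal M (omega (χ : G → ℂ) z) := by
  classical
  rw [omega_eq_sum_classes _ _ (isClassFunction_irr χ) hz]
  exact locIdeal_sum hM _ _ fun c _ => locIdeal_mul_right hM (hz' _) (centralChar_locRing hM χ _)

theorem irr_locRing (hM : IsPModular p M) (χ : IrrCharacter G) (g : G) :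
    MemLocalRing M ((χ : G → ℂ) g) :=
  locRing_of_isIntegral hM (Cfsg.Agent.Lib.Helper82.irr_isIntegral χ g)

theorem irr_conj_locRing (hM : IsPModular p M) (χ : IrrCharacter G) (g : G) :
    MemLocalRing M (conj ((χ : G → ℂ) g)) := by
  rw [← Cfsg.Agent.Lib.Helper82.irr_inv χ g]
  exact irr_locRing hM χ g⁻¹

/-- The central character values of the Brauer image of a block idempotent are `0` or `1`
modulo the local ideal. -/
theorem sect_omega_dichotomy (hM : IsPModular p M) (B : Set (IrrCharacter G))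
    (hB : IsPBlock M B) (u : G) (hu : IsPGroup p (Subgroup.zpowers u)) (C : Subgroup G)
    [Fintype C] (hC : ∀ g, g ∈ C ↔ g * u = u * g) (ψ : IrrCharacter C) :
    MemLocalRing M (omega (ψ : C → ℂ) (fun c : C => blockCoeff B c)) ∧
    (ψ ∈ sectSet M B C → MemLocalIdeal M (omega (ψ : C → ℂ) (fun c : C => blockCoeff B c) - 1)) := by
  classical
  have ha := isLocClass_blockCoeff hM B hB
  have hCH : Subgroup.centralizer ((Subgroup.zpowers u : Subgroup G) : Set G) ≤ C := by
    intro g hg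
    rw [hC]
    exact (Subgroup.mem_centralizer_iff.mp hg u (Subgroup.mem_zpowers u)).symm
  have hHC : ∀ h : C, (h : G) ∈ Subgroup.centralizer ((Subgroup.zpowers u : Subgroup G) : Set G) := by
    intro h
    rw [Subgroup.mem_centralizer_iff]
    rintro z ⟨k, rfl⟩
    have h1 : Commute u (h : G) := ((hC _).mp h.2).symm
    exact (h1.zpow_left k).eq
  have hbr : brRes (Subgroup.zpowers u) C (blockCoeff B) = fun c : C => blockCoeff B c := by
    funext h
    rw [brRes_apply, if_pos (hHC h)]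
  have hHN : C ≤ Subgroup.normalizer ((Subgroup.zpowers u : Subgroup G) : Set G) := by
    intro g hg
    exact Subgroup.centralizer_le_normalizer _ (hHC ⟨g, hg⟩)
  have hc : IsLocClass M (fun c : C => blockCoeff B c) := by
    rw [← hbr]
    exact isLocClass_brRes hM _ C hHN ha
  have hγR := omega_locRing hM ψ hc
  refine ⟨hγR, fun hψ => ?_⟩
  have h1 : ∀ h : C, MemLocalIdeal M ((fun c : C => blockCoeff B c) h -
      conv (fun c : C => blockCoeff B c) (fun c : C => blockCoeff B c) h) := by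
    intro h
    have h2 := brRes_conv hM (Subgroup.zpowers u) C hu hCH ha ha h
    rw [blockCoeff_conv, hbr] at h2
    exact h2
  have hcc := conv_isClassFunction hc.1 hc.1
  have h3 : MemLocalIdeal M (omega (ψ : C → ℂ) ((fun c : C => blockCoeff B c) +
      -(conv (fun c : C => blockCoeff B c) (fun c : C => blockCoeff B c)))) := by
    refine omega_locIdeal hM ψ ?_ ?_
    · intro g h
      simp only [Pi.add_apply, Pi.neg_apply]
      exact congrArg₂ (fun a b : ℂ => a + -b) (hc.1 g h) (hcc g h)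
    · intro g
      have := h1 g
      simpa [sub_eq_add_neg] using this
  rw [omega_add, omega_neg, omega_conv ψ _ _ hc.1 hc.1] at h3
  obtain ⟨γ, hγ⟩ : ∃ γ : ℂ, γ = omega (ψ : C → ℂ) (fun c : C => blockCoeff B c) := ⟨_, rfl⟩
  rw [← hγ] at h3 hγR ⊢
  have h4 : MemLocalIdeal M (γ * (1 - γ)) := by
    have : γ * (1 - γ) = γ + -(γ * γ) := by ring
    rw [this]; exact h3
  rcases locIdeal_of_mul hM hγR (locRing_sub hM (locRing_one hM) hγR) h4 with h5 | h5
  · exact absurd (hγ ▸ h5) hψ
  · have := locIdeal_neg h5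
    simpa using this

/-- **Block orthogonality inside a `p`-section** (an elementary form of Brauer's second main
theorem). -/
theorem sect_block_orth [Fintype (IrrCharacter G)] (hM : IsPModular p M)
    (B : Set (IrrCharacter G)) [DecidablePred (· ∈ B)]
    (hB : IsPBlock M B) (u : G) (hu : IsPGroup p (Subgroup.zpowers u)) (C : Subgroup G)
    [Fintype C] [Fintype (IrrCharacter C)] [DecidablePred (· ∈ sectSet M B C)]
    (hC : ∀ g, g ∈ C ↔ g * u = u * g) (x y : C)
    (hxy : ∀ c : ℕ, ¬ p ∣ c → ∃ j : ℕ, (x : G) ^ (c * j) = u ∧ (y : G) ^ (c * j) = u) :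
    ∑ χ : IrrCharacter G, (if χ ∈ B then (1 : ℂ) else 0) *
        (conj ((χ : G → ℂ) x) * (χ : G → ℂ) y) =
      ∑ ψ : IrrCharacter C, (if ψ ∈ sectSet M B C then (1 : ℂ) else 0) *
        (conj ((ψ : C → ℂ) x) * (ψ : C → ℂ) y) := by
  classical
  have hp := pmod_prime hM
  have ha := isLocClass_blockCoeff hM B hB
  rw [← sub_eq_zero]
  apply locRing_eq_zero_of_forall_div_pow hM
  intro m
  have hex : ∀ ψ : IrrCharacter C, ∃ k₀ : ℕ, ∀ k, k₀ ≤ k →
      PDiv M p m (omega (ψ : C → ℂ) (fun c : C => blockCoeff B c) ^ (p ^ k) -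
        (if ψ ∈ sectSet M B C then (1 : ℂ) else 0)) := by
    intro ψ
    by_cases hψ : ψ ∈ sectSet M B C
    · simp only [if_pos hψ]
      exact pdiv_pow_sub_one hM ((sect_omega_dichotomy hM B hB u hu C hC ψ).2 hψ) m
    · simp only [if_neg hψ, sub_zero]
      have h1 : MemLocalIdeal M (omega (ψ : C → ℂ) (fun c : C => blockCoeff B c)) := by
        by_contra h
        exact hψ h
      exact pdiv_pow_of_locIdeal hM h1 m
  choose k₀ hk₀ using hex
  obtain ⟨K, hK⟩ : ∃ K : ℕ, K = Finset.univ.sup k₀ + m + 1 := ⟨_, rfl⟩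
  have hK1 : 1 ≤ K := by omega
  have hKm : m ≤ K := by omega
  have hKψ : ∀ ψ, k₀ ψ ≤ K := by
    intro ψ
    have := Finset.le_sup (f := k₀) (Finset.mem_univ ψ)
    omega
  have h1 := sect_congr hM (blockCoeff B) ha u C hC x y hxy K hK1
  have h2 : ∀ χ : IrrCharacter G, omega (χ : G → ℂ) (blockCoeff B) ^ (p ^ K) =
      if χ ∈ B then (1 : ℂ) else 0 := by
    intro χ
    rw [omega_blockCoeff]
    have hne : p ^ K ≠ 0 := pow_ne_zero _ hp.ne_zero
    by_cases h : χ ∈ B
    · rw [if_pos h, if_pos h, one_pow]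
    · rw [if_neg h, if_neg h, zero_pow hne]
  simp only [h2] at h1
  have h3 : (∑ χ : IrrCharacter G, (if χ ∈ B then (1 : ℂ) else 0) *
        (conj ((χ : G → ℂ) x) * (χ : G → ℂ) y) -
      ∑ ψ : IrrCharacter C, (if ψ ∈ sectSet M B C then (1 : ℂ) else 0) *
        (conj ((ψ : C → ℂ) x) * (ψ : C → ℂ) y)) =
      (∑ χ : IrrCharacter G, (if χ ∈ B then (1 : ℂ) else 0) *
        (conj ((χ : G → ℂ) x) * (χ : G → ℂ) y) -
      ∑ ψ : IrrCharacter C, omega (ψ : C → ℂ) (fun c : C => blockCoeff B c) ^ (p ^ K) *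
        (conj ((ψ : C → ℂ) x) * (ψ : C → ℂ) y)) +
      ∑ ψ : IrrCharacter C, (omega (ψ : C → ℂ) (fun c : C => blockCoeff B c) ^ (p ^ K) -
        (if ψ ∈ sectSet M B C then (1 : ℂ) else 0)) *
        (conj ((ψ : C → ℂ) x) * (ψ : C → ℂ) y) := by
    simp only [sub_mul, Finset.sum_sub_distrib]
    ring
  rw [h3]
  refine pdiv_add hM (pdiv_mono hM hKm h1) (pdiv_sum hM _ _ fun ψ _ => ?_)
  exact pdiv_mul_right hM (locRing_mul hM (irr_conj_locRing hM ψ _) (irr_locRing hM ψ _))
    (hk₀ ψ K (hKψ ψ))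

end Main

end Cfsg.Agent.Lib.Helper82
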