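import Mathlib
import Cfsg.Prelude.Def_Blocks
import Cfsg.Agent.Lib.Helper21.Galois
import Cfsg.Agent.Lib.Helper80.Galois
import Cfsg.Agent.Lib.Helper82.PReg
import Cfsg.Agent.Lib.Helper82.CharCore

/-!
# Galois stable sets of irreducible characters (helper82)

* `exists_char_galois_data`: the values of the irreducible characters lifted to the cyclotomic
  field of order `|G|`, with the action of its Galois group.
* `galStable_sum_int`: for a set `B` of irreducible characters stable under the Galois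
  conjugations `χ ↦ χ (· ^ u)`, the sums `∑_{χ ∈ B} χ x * χ y` are rational integers.
* `principal_galConj_iff`: the principal block is Galois stable.
-/

set_option autoImplicit false

namespace Cfsg.Agent.Lib.Helper82

open Cfsg
open scoped ComplexConjugate

section GalData

variable {G : Type*} [Group G] [Fintype G]

theorem exists_char_galois_data (n : ℕ) [NeZero n] (hn : n = Nat.card G)
    (φ : CyclotomicField n ℚ →+* ℂ) :
    ∃ w : IrrCharacter G → G → CyclotomicField n ℚ,
      (∀ χ h, φ (w χ h) = (χ : G → ℂ) h) ∧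
      ∀ σ : CyclotomicField n ℚ ≃ₐ[ℚ] CyclotomicField n ℚ, ∃ u : ℕ, (Nat.card G).Coprime u ∧
        ∀ χ h, σ (w χ h) = w χ (h ^ u) := by
  classical
  haveI : IsCyclotomicExtension ({n} : Set ℕ) ℚ (CyclotomicField n ℚ) :=
    CyclotomicField.isCyclotomicExtension n ℚ
  have hz : IsPrimitiveRoot (IsCyclotomicExtension.zeta n ℚ (CyclotomicField n ℚ)) n :=
    IsCyclotomicExtension.zeta_spec n ℚ (CyclotomicField n ℚ)
  obtain ⟨z, hzz⟩ : ∃ z : CyclotomicField n ℚ,
      z = IsCyclotomicExtension.zeta n ℚ (CyclotomicField n ℚ) := ⟨_, rfl⟩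
  rw [← hzz] at hz
  have hφinj : Function.Injective φ := φ.injective
  have hζ : IsPrimitiveRoot (φ z) (Nat.card G) := hn ▸ hz.map_of_injective hφinj
  choose m hm using fun (χ : IrrCharacter G) (h : G) =>
    Cfsg.Agent.Lib.Helper21.irr_pow_eq χ h (φ z) hζ
  let w : IrrCharacter G → G → CyclotomicField n ℚ := fun χ h =>
    ∑ j ∈ Finset.range (Nat.card G), (m χ h j : CyclotomicField n ℚ) * z ^ j
  have hφw : ∀ χ h, φ (w χ h) = (χ : G → ℂ) h := by
    intro χ h
    have h1 := hm χ h 1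
    simp only [pow_one] at h1
    simp only [w, map_mul, map_natCast, map_sum, map_pow]
    rw [← h1]
  refine ⟨w, hφw, fun σ => ?_⟩
  have hσz : IsPrimitiveRoot (σ z) n := hz.map_of_injective σ.injective
  obtain ⟨u, -, hucop, hu⟩ := (hz.isPrimitiveRoot_iff).mp hσz
  have hucop' : (Nat.card G).Coprime u := by rw [← hn]; exact hucop.symm
  refine ⟨u, hucop', fun χ h => ?_⟩
  apply hφinj
  rw [hφw χ (h ^ u)]
  have h1 := hm χ h u
  have h3 : σ (w χ h) =
      ∑ j ∈ Finset.range (Nat.card G), (m χ h j : CyclotomicField n ℚ) * (z ^ u) ^ j := by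
    simp only [w, map_mul, map_natCast, map_sum, map_pow, hu]
  rw [h3]
  simp only [map_mul, map_natCast, map_sum, map_pow]
  have h4 : ∀ j, (φ z ^ u) ^ j = (φ z ^ j) ^ u := fun j => by
    rw [← pow_mul, ← pow_mul, mul_comm]
  simp only [h4]
  rw [← h1]

theorem galConj_injective (u : ℕ) (hu : Nat.Coprime u (Nat.card G)) :
    Function.Injective (Cfsg.Agent.Lib.Helper80.galConj (G := G) u hu) := by
  intro χ χ' h
  apply Subtype.ext
  funext g
  have h1 : ((powCoprime hu.symm).symm g) ^ u = g := (powCoprime hu.symm).apply_symm_apply g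
  have h2 := congrArg (fun θ : IrrCharacter G => (θ : G → ℂ) ((powCoprime hu.symm).symm g)) h
  simp only [Cfsg.Agent.Lib.Helper80.galConj_apply] at h2
  rw [h1] at h2
  exact h2

/-- For a Galois stable set `B` of irreducible characters the sums `∑_{χ ∈ B} χ x * χ y` are
rational integers. -/
theorem galStable_sum_int [Fintype (IrrCharacter G)]
    (B : Set (IrrCharacter G)) [DecidablePred (· ∈ B)]
    (hB : ∀ (u : ℕ) (hu : Nat.Coprime u (Nat.card G)) (χ : IrrCharacter G),
      Cfsg.Agent.Lib.Helper80.galConj u hu χ ∈ B ↔ χ ∈ B)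
    (x y : G) :
    ∃ z : ℤ, ∑ χ : IrrCharacter G,
      (if χ ∈ B then (χ : G → ℂ) x * (χ : G → ℂ) y else 0) = (z : ℂ) := by
  classical
  obtain ⟨n, hn⟩ : ∃ n, n = Nat.card G := ⟨_, rfl⟩
  haveI : NeZero n := ⟨by rw [hn]; exact Nat.card_pos.ne'⟩
  haveI : IsCyclotomicExtension ({n} : Set ℕ) ℚ (CyclotomicField n ℚ) :=
    CyclotomicField.isCyclotomicExtension n ℚ
  haveI : IsGalois ℚ (CyclotomicField n ℚ) := IsCyclotomicExtension.isGalois ({n} : Set ℕ) ℚ _
  haveI : FiniteDimensional ℚ (CyclotomicField n ℚ) :=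
    IsCyclotomicExtension.finiteDimensional ({n} : Set ℕ) ℚ _
  let φ : CyclotomicField n ℚ →+* ℂ :=
    (IsAlgClosed.lift : CyclotomicField n ℚ →ₐ[ℚ] ℂ).toRingHom
  obtain ⟨w, hw1, hw2⟩ := exists_char_galois_data (G := G) n hn φ
  obtain ⟨s, hs⟩ : ∃ s : CyclotomicField n ℚ,
      s = ∑ χ : IrrCharacter G, (if χ ∈ B then w χ x * w χ y else 0) := ⟨_, rfl⟩
  have hφs : φ s = ∑ χ : IrrCharacter G,
      (if χ ∈ B then (χ : G → ℂ) x * (χ : G → ℂ) y else 0) := by
    rw [hs, map_sum]
    refine Finset.sum_congr rfl fun χ _ => ?_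
    split_ifs
    · rw [map_mul, hw1, hw1]
    · rw [map_zero]
  have hfix : ∀ σ : CyclotomicField n ℚ ≃ₐ[ℚ] CyclotomicField n ℚ, σ s = s := by
    intro σ
    obtain ⟨u, hu, hσ⟩ := hw2 σ
    apply φ.injective
    have h1 : σ s = ∑ χ : IrrCharacter G,
        (if χ ∈ B then w χ (x ^ u) * w χ (y ^ u) else 0) := by
      rw [hs, map_sum]
      refine Finset.sum_congr rfl fun χ _ => ?_
      split_ifs
      · rw [map_mul, hσ, hσ]
      · rw [map_zero]
    rw [h1, hφs, map_sum]
    have hu' : Nat.Coprime u (Nat.card G) := hu.symm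
    have hbij : Function.Bijective (Cfsg.Agent.Lib.Helper80.galConj (G := G) u hu') :=
      Finite.injective_iff_bijective.mp (galConj_injective u hu')
    rw [← Equiv.sum_comp (Equiv.ofBijective _ hbij)
      (fun χ : IrrCharacter G => if χ ∈ B then (χ : G → ℂ) x * (χ : G → ℂ) y else 0)]
    refine Finset.sum_congr rfl fun χ _ => ?_
    simp only [Equiv.ofBijective_apply]
    by_cases h : χ ∈ B
    · rw [if_pos h, if_pos ((hB u hu' χ).mpr h), map_mul, hw1, hw1]
      rfl
    · rw [if_neg h, if_neg (fun h' => h ((hB u hu' χ).mp h')), map_zero]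
  obtain ⟨q, hq⟩ := (IsGalois.mem_range_algebraMap_iff_fixed s).mpr hfix
  have hφq : φ s = (q : ℂ) := by
    rw [← hq]
    show (IsAlgClosed.lift : CyclotomicField n ℚ →ₐ[ℚ] ℂ) (algebraMap ℚ _ q) = (q : ℂ)
    rw [AlgHom.commutes]
    rfl
  have hint : IsIntegral ℤ (φ s) := by
    rw [hφs]
    refine IsIntegral.sum _ fun χ _ => ?_
    split_ifs
    · exact (irr_isIntegral χ x).mul (irr_isIntegral χ y)
    · exact isIntegral_zero
  rw [hφq] at hint
  have h1 : IsIntegral ℤ q := by
    apply (isIntegral_algebraMap_iff (algebraMap ℚ ℂ).injective).mp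
    simpa using hint
  obtain ⟨k, hk⟩ := IsIntegrallyClosed.isIntegral_iff.mp h1
  refine ⟨k, ?_⟩
  rw [← hφs, hφq, ← hk]
  simp

/-- The principal block is Galois stable. -/
theorem principal_galConj_iff {p : ℕ} [Fact p.Prime] {M : Ideal AlgInt} (hM : IsPModular p M)
    (u : ℕ) (hu : Nat.Coprime u (Nat.card G)) (χ : IrrCharacter G) :
    Cfsg.Agent.Lib.Helper80.galConj u hu χ ∈ principalBlock M G ↔ χ ∈ principalBlock M G := by
  rw [mem_principal_iff_sum_pRegular hM, mem_principal_iff_sum_pRegular hM]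
  have hsum : ∑ g : G, pRegInd p G g * (Cfsg.Agent.Lib.Helper80.galConj u hu χ : G → ℂ) g =
      ∑ g : G, pRegInd p G g * (χ : G → ℂ) g := by
    rw [← Equiv.sum_comp (powCoprime hu.symm) (fun g => pRegInd p G g * (χ : G → ℂ) g)]
    refine Finset.sum_congr rfl fun g _ => ?_
    have h1 : (powCoprime hu.symm) g = g ^ u := rfl
    have h2 : orderOf (g ^ u) = orderOf g :=
      Nat.Coprime.orderOf_pow (Nat.Coprime.coprime_dvd_left (orderOf_dvd_natCard g) hu.symm)
    rw [h1, Cfsg.Agent.Lib.Helper80.galConj_apply]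
    congr 1
    by_cases hg : p ∣ orderOf g
    · rw [pRegInd_of_sing hg, pRegInd_of_sing (h2 ▸ hg)]
    · rw [pRegInd_of_reg hg, pRegInd_of_reg (h2 ▸ hg)]
  rw [hsum]

end GalData

end Cfsg.Agent.Lib.Helper82
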