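import Mathlib
import Cfsg.Prelude.Def_GeometricClasses
import Cfsg.Agent.Lib.Helper71.Asch0
import Cfsg.Agent.Lib.Helper87.ASPSF

/-! S5630 piece COREB (helper82 for helper71): homogeneous case, constituent not absolutely
irreducible: the centre of the commutant of `N` is a field normalised by `G`. -/

set_option autoImplicit false

namespace Cfsg.Agent.Lib.Helper82.ASCOREB

open Matrix Cfsg.Geo Cfsg.Agent.Lib.Helper71.Asch
open scoped Kronecker

variable {n : ℕ} {F : Type*} [Field F]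

section blocks

variable {d k : ℕ}

/-- Transport of a matrix on `Fin d × Fin k` to `Fin n` along `e`, conjugated by `P`. -/
def cj (e : Fin n ≃ Fin d × Fin k) (P : GL (Fin n) F)
    (Y : Matrix (Fin d × Fin k) (Fin d × Fin k) F) : Matrix (Fin n) (Fin n) F :=
  P.1 * Matrix.reindex e.symm e.symm Y * (P⁻¹ : GL (Fin n) F).1

theorem tmat_eq_cj (e : Fin n ≃ Fin d × Fin k) (P : GL (Fin n) F) (a : Matrix (Fin d) (Fin d) F)
    (b : Matrix (Fin k) (Fin k) F) : tmat e P a b = cj e P (a ⊗ₖ b) := rfl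

theorem inv_mul_val (P : GL (Fin n) F) : (P⁻¹ : GL (Fin n) F).1 * P.1 = 1 := by
  rw [← Units.val_mul, inv_mul_cancel, Units.val_one]

theorem mul_inv_val (P : GL (Fin n) F) : P.1 * (P⁻¹ : GL (Fin n) F).1 = 1 := by
  rw [← Units.val_mul, mul_inv_cancel, Units.val_one]

theorem cj_mul (e : Fin n ≃ Fin d × Fin k) (P : GL (Fin n) F)
    (Y Z : Matrix (Fin d × Fin k) (Fin d × Fin k) F) : cj e P Y * cj e P Z = cj e P (Y * Z) := by
  unfold cj
  have h2 : Matrix.reindex e.symm e.symm (Y * Z) =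
      Matrix.reindex e.symm e.symm Y * Matrix.reindex e.symm e.symm Z := by
    simp [Matrix.reindex_apply, Matrix.submatrix_mul_equiv]
  rw [h2]
  calc P.1 * Matrix.reindex e.symm e.symm Y * (P⁻¹ : GL (Fin n) F).1 *
        (P.1 * Matrix.reindex e.symm e.symm Z * (P⁻¹ : GL (Fin n) F).1)
      = P.1 * Matrix.reindex e.symm e.symm Y * ((P⁻¹ : GL (Fin n) F).1 * P.1) *
        Matrix.reindex e.symm e.symm Z * (P⁻¹ : GL (Fin n) F).1 := by simp only [mul_assoc]
    _ = _ := by rw [inv_mul_val, mul_one]; simp only [mul_assoc]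

theorem cj_one (e : Fin n ≃ Fin d × Fin k) (P : GL (Fin n) F) : cj e P 1 = 1 := by
  unfold cj
  have h2 : Matrix.reindex e.symm e.symm (1 : Matrix (Fin d × Fin k) (Fin d × Fin k) F) = 1 := by
    simp [Matrix.reindex_apply]
  rw [h2, mul_one, mul_inv_val]

theorem cj_zero (e : Fin n ≃ Fin d × Fin k) (P : GL (Fin n) F) : cj e P 0 = 0 := by
  unfold cj
  have h2 : Matrix.reindex e.symm e.symm (0 : Matrix (Fin d × Fin k) (Fin d × Fin k) F) = 0 := by
    simp [Matrix.reindex_apply]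
  rw [h2, mul_zero, zero_mul]

theorem cj_smul (e : Fin n ≃ Fin d × Fin k) (P : GL (Fin n) F) (c : F)
    (Y : Matrix (Fin d × Fin k) (Fin d × Fin k) F) : cj e P (c • Y) = c • cj e P Y := by
  unfold cj
  have h2 : Matrix.reindex e.symm e.symm (c • Y) = c • Matrix.reindex e.symm e.symm Y := by
    ext i j
    simp [Matrix.reindex_apply]
  rw [h2, Matrix.mul_smul, Matrix.smul_mul]

theorem conj_cancel (P : GL (Fin n) F) (A : Matrix (Fin n) (Fin n) F) :
    (P⁻¹ : GL (Fin n) F).1 * (P.1 * A * (P⁻¹ : GL (Fin n) F).1) * P.1 = A := by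
  calc (P⁻¹ : GL (Fin n) F).1 * (P.1 * A * (P⁻¹ : GL (Fin n) F).1) * P.1
      = ((P⁻¹ : GL (Fin n) F).1 * P.1) * A * ((P⁻¹ : GL (Fin n) F).1 * P.1) := by
        simp only [mul_assoc]
    _ = A := by rw [inv_mul_val, one_mul, mul_one]

theorem conj_cancel' (P : GL (Fin n) F) (A : Matrix (Fin n) (Fin n) F) :
    P.1 * ((P⁻¹ : GL (Fin n) F).1 * A * P.1) * (P⁻¹ : GL (Fin n) F).1 = A := by
  calc P.1 * ((P⁻¹ : GL (Fin n) F).1 * A * P.1) * (P⁻¹ : GL (Fin n) F).1
      = (P.1 * (P⁻¹ : GL (Fin n) F).1) * A * (P.1 * (P⁻¹ : GL (Fin n) F).1) := by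
        simp only [mul_assoc]
    _ = A := by rw [mul_inv_val, one_mul, mul_one]

theorem cj_injective (e : Fin n ≃ Fin d × Fin k) (P : GL (Fin n) F) :
    Function.Injective (cj e P (F := F)) := by
  intro Y Z h
  unfold cj at h
  have h3 : Matrix.reindex e.symm e.symm Y = Matrix.reindex e.symm e.symm Z := by
    have := congrArg (fun M => (P⁻¹ : GL (Fin n) F).1 * M * P.1) h
    simpa only [conj_cancel] using this
  exact (Matrix.reindex e.symm e.symm).injective h3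

theorem cj_surjective (e : Fin n ≃ Fin d × Fin k) (P : GL (Fin n) F) :
    Function.Surjective (cj e P (F := F)) := by
  intro X
  refine ⟨Matrix.reindex e e ((P⁻¹ : GL (Fin n) F).1 * X * P.1), ?_⟩
  unfold cj
  have h2 : Matrix.reindex e.symm e.symm (Matrix.reindex e e ((P⁻¹ : GL (Fin n) F).1 * X * P.1)) =
      (P⁻¹ : GL (Fin n) F).1 * X * P.1 := by
    ext i j
    simp [Matrix.reindex_apply]
  rw [h2, conj_cancel']

/-- The `(s, t)` block of a matrix on `Fin d × Fin k`. -/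
def blk (Y : Matrix (Fin d × Fin k) (Fin d × Fin k) F) (s t : Fin k) : Matrix (Fin d) (Fin d) F :=
  Matrix.of fun i j => Y (i, s) (j, t)

theorem blk_kron_mul (A : Matrix (Fin d) (Fin d) F) (Y : Matrix (Fin d × Fin k) (Fin d × Fin k) F)
    (s t : Fin k) :
    blk ((A ⊗ₖ (1 : Matrix (Fin k) (Fin k) F)) * Y) s t = A * blk Y s t := by
  ext i j
  simp [blk, Matrix.mul_apply, Fintype.sum_prod_type, Matrix.one_apply]

theorem blk_mul_kron (A : Matrix (Fin d) (Fin d) F) (Y : Matrix (Fin d × Fin k) (Fin d × Fin k) F)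
    (s t : Fin k) :
    blk (Y * (A ⊗ₖ (1 : Matrix (Fin k) (Fin k) F))) s t = blk Y s t * A := by
  ext i j
  simp [blk, Matrix.mul_apply, Fintype.sum_prod_type, Matrix.one_apply]

theorem kron_comm_iff (A : Matrix (Fin d) (Fin d) F)
    (Y : Matrix (Fin d × Fin k) (Fin d × Fin k) F) :
    (A ⊗ₖ (1 : Matrix (Fin k) (Fin k) F)) * Y = Y * (A ⊗ₖ (1 : Matrix (Fin k) (Fin k) F)) ↔
      ∀ s t, A * blk Y s t = blk Y s t * A := by
  constructor
  · intro h s t
    rw [← blk_kron_mul, ← blk_mul_kron, h]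
  · intro h
    ext ⟨i, s⟩ ⟨j, t⟩
    have h1 := congrFun (congrFun (blk_kron_mul A Y s t) i) j
    have h2 := congrFun (congrFun (blk_mul_kron A Y s t) i) j
    have h3 := congrFun (congrFun (h s t) i) j
    exact (h1.trans h3).trans h2.symm

theorem eq_kron_of_comm_single (Y : Matrix (Fin d × Fin k) (Fin d × Fin k) F) (s₀ : Fin k)
    (h : ∀ s t : Fin k,
      Y * ((1 : Matrix (Fin d) (Fin d) F) ⊗ₖ Matrix.single s t (1 : F)) =
        ((1 : Matrix (Fin d) (Fin d) F) ⊗ₖ Matrix.single s t (1 : F)) * Y) :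
    Y = blk Y s₀ s₀ ⊗ₖ (1 : Matrix (Fin k) (Fin k) F) := by
  have key : ∀ (s t a b : Fin k) (i j : Fin d),
      (if b = t then Y (i, a) (j, s) else 0) = (if a = s then Y (i, t) (j, b) else 0) := by
    intro s t a b i j
    have := congrFun (congrFun (h s t) (i, a)) (j, b)
    simp only [Matrix.mul_apply, Fintype.sum_prod_type, Matrix.kroneckerMap_apply,
      Matrix.one_apply, Matrix.single_apply] at this
    by_cases hb : b = t <;> by_cases ha : a = s
    · subst hb; subst ha; simpa using this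
    · subst hb
      have ha' : ¬ s = a := fun h => ha h.symm
      simpa [ha, ha'] using this
    · subst ha
      have hb' : ¬ t = b := fun h => hb h.symm
      simpa [hb, hb'] using this
    · simp [ha, hb]
  ext ⟨i, a⟩ ⟨j, b⟩
  have e1 := key b b a b i j
  have e2 := key b s₀ b s₀ i j
  simp only [if_true] at e1 e2
  simp only [Matrix.kroneckerMap_apply, blk, Matrix.of_apply, Matrix.one_apply, mul_ite, mul_one,
    mul_zero]
  rw [e1, e2]

end blocks

/-- COREB, relative to PSF (given as the hypothesis `hPSF`, verbatim the Skel statement of PSF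
quantified over `K`). -/
theorem coreB_of [Fintype F]
    (hPSF : ∀ K : Subalgebra F (Matrix (Fin n) (Fin n) F),
      (∀ x ∈ K, ∀ y ∈ K, x * y = y * x) →
      (∀ x ∈ K, x ≠ 0 → ∃ y ∈ K, x * y = 1) → 2 ≤ Module.finrank F K →
      ∃ (r : ℕ) (K' : Subalgebra F (Matrix (Fin n) (Fin n) F)), r.Prime ∧ IsFieldSubalgebra r K' ∧
        K' ≤ K ∧ ∀ g : GL (Fin n) F, (∀ x ∈ K, g.1 * x * (g⁻¹ : GL (Fin n) F).1 ∈ K) →
          g ∈ subalgebraNormalizer K')
    (hn : 1 ≤ n) (G N : Subgroup (GL (Fin n) F)) (hNG : N ≤ G) (hN : Nrm G N) {d k : ℕ}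
    (e : Fin n ≃ Fin d × Fin k) (P : GL (Fin n) F) (R : Subgroup (GL (Fin d) F))
    (hR : ActsIrreducibly (matrixSet R)) (h1 : ∀ x ∈ N, ∃ y ∈ R, x.1 = tmat e P y.1 1)
    (h2 : ∀ y ∈ R, ∃ x ∈ N, x.1 = tmat e P y.1 1)
    (hna : ¬ ActsAbsolutelyIrreducibly (matrixSet R)) :
    ∃ (r : ℕ) (K : Subalgebra F (Matrix (Fin n) (Fin n) F)), r.Prime ∧ IsFieldSubalgebra r K ∧
      G ≤ subalgebraNormalizer K ∧
      (∀ z ∈ K, (∀ x ∈ N, z * x.1 = x.1 * z) ∧
        ∀ X : Matrix (Fin n) (Fin n) F, (∀ x ∈ N, X * x.1 = x.1 * X) → z * X = X * z) := by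
  classical
  have hcard : n = d * k := by
    have := Fintype.card_congr e
    simpa using this
  have hd : 0 < d := by
    rcases Nat.eq_zero_or_pos d with h | h
    · subst h; omega
    · exact h
  have hk : 0 < k := by
    rcases Nat.eq_zero_or_pos k with h | h
    · subst h; omega
    · exact h
  haveI : NeZero d := ⟨hd.ne'⟩
  haveI : NeZero k := ⟨hk.ne'⟩
  haveI : NeZero n := ⟨by omega⟩
  let s₀ : Fin k := 0
  -- the commutant of `R`
  let C : Subalgebra F (Matrix (Fin d) (Fin d) F) := Subalgebra.centralizer F (matrixSet R)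
  have hCmem : ∀ θ : Matrix (Fin d) (Fin d) F, θ ∈ C ↔ ∀ y ∈ R, θ * y.1 = y.1 * θ := by
    intro θ
    rw [Subalgebra.mem_centralizer_iff]
    constructor
    · intro h y hy
      exact (h y.1 ⟨y, hy, rfl⟩).symm
    · rintro h _ ⟨y, hy, rfl⟩
      exact (h y hy).symm
  -- Schur's lemma
  have hSchur : ∀ θ ∈ C, θ ≠ 0 → ∃ θ' ∈ C, θ * θ' = 1 := by
    intro θ hθ hθ0
    have hθ' := (hCmem θ).1 hθ
    have hW := hR (LinearMap.ker (Matrix.toLin' θ)) (by
      rintro _ ⟨y, hy, rfl⟩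
      rw [Submodule.map_le_iff_le_comap]
      intro v hv
      rw [Submodule.mem_comap, LinearMap.mem_ker]
      rw [LinearMap.mem_ker] at hv
      rw [← LinearMap.comp_apply, ← Matrix.toLin'_mul, hθ' y hy, Matrix.toLin'_mul,
        LinearMap.comp_apply, hv, map_zero])
    rcases hW with hW | hW
    · have hinj : Function.Injective (Matrix.toLin' θ) := LinearMap.ker_eq_bot.1 hW
      have hinj' : Function.Injective θ.mulVec := by
        intro v w h
        apply hinj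
        simpa [Matrix.toLin'_apply] using h
      have hu : IsUnit θ := Matrix.mulVec_injective_iff_isUnit.1 hinj'
      obtain ⟨u, rfl⟩ := hu
      refine ⟨(u⁻¹ : (Matrix (Fin d) (Fin d) F)ˣ).1, ?_, Units.mul_inv u⟩
      rw [hCmem]
      intro y hy
      have hc : Commute u y := Units.ext (hθ' y hy)
      exact congrArg Units.val hc.inv_left.eq
    · exfalso
      apply hθ0
      have h0 : Matrix.toLin' θ = 0 := LinearMap.ker_eq_top.1 hW
      exact (LinearEquiv.map_eq_zero_iff _).1 h0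
  -- Wedderburn: the commutant is commutative
  have hCcomm : ∀ a ∈ C, ∀ b ∈ C, a * b = b * a := by
    haveI : Nontrivial ↥C := ⟨⟨0, 1, fun h => by
      have h' : (0 : Matrix (Fin d) (Fin d) F) = 1 := congrArg Subtype.val h
      exact zero_ne_one h'⟩⟩
    haveI : NoZeroDivisors ↥C := ⟨fun {a b} hab => by
      by_cases ha : a = 0
      · exact Or.inl ha
      · right
        obtain ⟨a', -, haa'⟩ := hSchur a.1 a.2 (fun h => ha (Subtype.ext h))
        have h1 : a' * a.1 = 1 := mul_eq_one_comm.1 haa'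
        have h2 : a.1 * b.1 = 0 := congrArg Subtype.val hab
        apply Subtype.ext
        calc b.1 = (a' * a.1) * b.1 := by rw [h1, one_mul]
          _ = a' * (a.1 * b.1) := mul_assoc _ _ _
          _ = 0 := by rw [h2, mul_zero]⟩
    haveI : IsDomain ↥C := NoZeroDivisors.to_isDomain _
    intro a ha b hb
    have := (Finite.isDomain_to_isField ↥C).mul_comm ⟨a, ha⟩ ⟨b, hb⟩
    exact congrArg Subtype.val this
  -- a non-scalar element of the commutant
  have hex : ∃ M : Matrix (Fin d) (Fin d) F, M ∈ C ∧ ∀ c : F, M ≠ c • (1 : Matrix (Fin d) (Fin d) F) := by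
    by_contra hcon
    apply hna
    refine ⟨hR, fun M hM => ?_⟩
    by_contra hM'
    apply hcon
    refine ⟨M, ?_, fun c hc => hM' ⟨c, hc⟩⟩
    rw [hCmem]
    intro y hy
    exact hM y.1 ⟨y, hy, rfl⟩
  obtain ⟨M, hMC, hMns⟩ := hex
  -- the centre of the commutant of `N`
  let K₀ : Subalgebra F (Matrix (Fin n) (Fin n) F) :=
    Subalgebra.centralizer F (matrixSet N) ⊓
      Subalgebra.centralizer F
        (Subalgebra.centralizer F (matrixSet N) : Set (Matrix (Fin n) (Fin n) F))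
  have hK₀mem : ∀ z : Matrix (Fin n) (Fin n) F, z ∈ K₀ ↔ ((∀ x ∈ N, z * x.1 = x.1 * z) ∧
      ∀ X : Matrix (Fin n) (Fin n) F, (∀ x ∈ N, X * x.1 = x.1 * X) → z * X = X * z) := by
    intro z
    rw [Algebra.mem_inf, Subalgebra.mem_centralizer_iff, Subalgebra.mem_centralizer_iff]
    constructor
    · rintro ⟨ha, hb⟩
      refine ⟨fun x hx => (ha x.1 ⟨x, hx, rfl⟩).symm, fun X hX => (hb X ?_).symm⟩
      rw [SetLike.mem_coe, Subalgebra.mem_centralizer_iff]
      rintro _ ⟨x, hx, rfl⟩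
      exact (hX x hx).symm
    · rintro ⟨ha, hb⟩
      refine ⟨?_, fun X hX => (hb X ?_).symm⟩
      · rintro _ ⟨x, hx, rfl⟩
        exact (ha x hx).symm
      · intro x hx
        rw [SetLike.mem_coe, Subalgebra.mem_centralizer_iff] at hX
        exact (hX x.1 ⟨x, hx, rfl⟩).symm
  -- commuting with `N` in terms of the transported matrix
  have hcommN : ∀ Y : Matrix (Fin d × Fin k) (Fin d × Fin k) F,
      (∀ x ∈ N, cj e P Y * x.1 = x.1 * cj e P Y) ↔
        ∀ y ∈ R, Y * (y.1 ⊗ₖ (1 : Matrix (Fin k) (Fin k) F)) =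
          (y.1 ⊗ₖ (1 : Matrix (Fin k) (Fin k) F)) * Y := by
    intro Y
    constructor
    · intro h y hy
      obtain ⟨x, hx, hxy⟩ := h2 y hy
      have := h x hx
      rw [hxy, tmat_eq_cj, cj_mul, cj_mul] at this
      exact cj_injective e P this
    · intro h x hx
      obtain ⟨y, hy, hxy⟩ := h1 x hx
      rw [hxy, tmat_eq_cj, cj_mul, cj_mul, h y hy]
  have hblkC : ∀ Y : Matrix (Fin d × Fin k) (Fin d × Fin k) F,
      (∀ x ∈ N, cj e P Y * x.1 = x.1 * cj e P Y) → ∀ s t, blk Y s t ∈ C := by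
    intro Y hY s t
    rw [hCmem]
    intro y hy
    have := (hcommN Y).1 hY y hy
    exact ((kron_comm_iff y.1 Y).1 this.symm s t).symm
  -- (b)
  have hb : ∀ θ ∈ C, tmat e P θ 1 ∈ K₀ := by
    intro θ hθ
    rw [hK₀mem, tmat_eq_cj]
    have hθ' := (hCmem θ).1 hθ
    constructor
    · rw [hcommN]
      intro y hy
      rw [← Matrix.mul_kronecker_mul, ← Matrix.mul_kronecker_mul, hθ' y hy]
    · intro X hX
      obtain ⟨Y, rfl⟩ := cj_surjective e P X
      rw [cj_mul, cj_mul]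
      congr 1
      rw [kron_comm_iff]
      intro s t
      exact hCcomm θ hθ _ (hblkC Y hX s t)
  -- (c)
  have hc : ∀ z ∈ K₀, ∃ θ ∈ C, z = tmat e P θ 1 := by
    intro z hz
    rw [hK₀mem] at hz
    obtain ⟨hz1, hz2⟩ := hz
    obtain ⟨Y, rfl⟩ := cj_surjective e P z
    have hE : ∀ s t : Fin k,
        Y * ((1 : Matrix (Fin d) (Fin d) F) ⊗ₖ Matrix.single s t (1 : F)) =
          ((1 : Matrix (Fin d) (Fin d) F) ⊗ₖ Matrix.single s t (1 : F)) * Y := by
      intro s t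
      have := hz2 (cj e P ((1 : Matrix (Fin d) (Fin d) F) ⊗ₖ Matrix.single s t (1 : F))) (by
        rw [hcommN]
        intro y hy
        rw [← Matrix.mul_kronecker_mul, ← Matrix.mul_kronecker_mul, one_mul, mul_one, one_mul,
          mul_one])
      rw [cj_mul, cj_mul] at this
      exact cj_injective e P this
    have hY := eq_kron_of_comm_single Y s₀ hE
    refine ⟨blk Y s₀ s₀, hblkC Y hz1 s₀ s₀, ?_⟩
    rw [tmat_eq_cj, ← hY]
  -- properties of `K₀`
  have hK₀comm : ∀ x ∈ K₀, ∀ y ∈ K₀, x * y = y * x := by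
    intro x hx y hy
    exact ((hK₀mem x).1 hx).2 y ((hK₀mem y).1 hy).1
  have hK₀inv : ∀ x ∈ K₀, x ≠ 0 → ∃ y ∈ K₀, x * y = 1 := by
    intro x hx hx0
    obtain ⟨θ, hθ, rfl⟩ := hc x hx
    have hθ0 : θ ≠ 0 := by
      rintro rfl
      apply hx0
      rw [tmat_eq_cj, Matrix.zero_kronecker, cj_zero]
    obtain ⟨θ', hθ', h⟩ := hSchur θ hθ hθ0
    refine ⟨tmat e P θ' 1, hb θ' hθ', ?_⟩
    rw [tmat_eq_cj, tmat_eq_cj, cj_mul, ← Matrix.mul_kronecker_mul, h, one_mul,
      Matrix.one_kronecker_one, cj_one]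
  have hK₀dim : 2 ≤ Module.finrank F K₀ := by
    by_contra hlt
    have hle : Module.finrank F K₀ ≤ 1 := by omega
    rw [finrank_le_one_iff] at hle
    obtain ⟨v, hv⟩ := hle
    obtain ⟨c₁, hc₁⟩ := hv 1
    obtain ⟨c₂, hc₂⟩ := hv ⟨tmat e P M 1, hb M hMC⟩
    have hc₁0 : c₁ ≠ 0 := by
      rintro rfl
      rw [zero_smul] at hc₁
      have h' : (0 : Matrix (Fin n) (Fin n) F) = 1 := congrArg Subtype.val hc₁
      exact zero_ne_one h'
    have hv' : v = c₁⁻¹ • 1 := by rw [← hc₁, smul_smul, inv_mul_cancel₀ hc₁0, one_smul]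
    have h3 : tmat e P M 1 = (c₂ * c₁⁻¹) • (1 : Matrix (Fin n) (Fin n) F) := by
      have := congrArg Subtype.val hc₂
      rw [hv', smul_smul] at this
      simpa using this.symm
    apply hMns (c₂ * c₁⁻¹)
    have h4 : cj e P (M ⊗ₖ (1 : Matrix (Fin k) (Fin k) F)) =
        cj e P (((c₂ * c₁⁻¹) • (1 : Matrix (Fin d) (Fin d) F)) ⊗ₖ
          (1 : Matrix (Fin k) (Fin k) F)) := by
      rw [← tmat_eq_cj, h3, Matrix.smul_kronecker, Matrix.one_kronecker_one, cj_smul, cj_one]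
    have h5 := cj_injective e P h4
    ext i j
    have := congrFun (congrFun h5 (i, s₀)) (j, s₀)
    simpa [Matrix.kroneckerMap_apply] using this
  obtain ⟨r, K', hr, hK', hle, hnorm⟩ := hPSF K₀ hK₀comm hK₀inv hK₀dim
  refine ⟨r, K', hr, hK', ?_, fun z hz => (hK₀mem z).1 (hle hz)⟩
  intro g hg
  apply hnorm
  intro x hx
  obtain ⟨hx1, hx2⟩ := (hK₀mem x).1 hx
  have hAB := mul_inv_val g
  have hBA := inv_mul_val g
  rw [hK₀mem]
  constructor
  · intro y hy
    have hy' : g⁻¹ * y * g ∈ N := by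
      have := hN g⁻¹ (G.inv_mem hg) y hy
      rwa [inv_inv] at this
    have h3 := hx1 _ hy'
    rw [Units.val_mul, Units.val_mul] at h3
    calc g.1 * x * (g⁻¹ : GL (Fin n) F).1 * y.1
        = g.1 * (x * ((g⁻¹ : GL (Fin n) F).1 * y.1 * g.1)) * (g⁻¹ : GL (Fin n) F).1 := by
          rw [show g.1 * (x * ((g⁻¹ : GL (Fin n) F).1 * y.1 * g.1)) * (g⁻¹ : GL (Fin n) F).1 =
            g.1 * x * (g⁻¹ : GL (Fin n) F).1 * y.1 * (g.1 * (g⁻¹ : GL (Fin n) F).1) by
              simp only [mul_assoc], hAB, mul_one]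
      _ = g.1 * ((g⁻¹ : GL (Fin n) F).1 * y.1 * g.1 * x) * (g⁻¹ : GL (Fin n) F).1 := by rw [h3]
      _ = y.1 * (g.1 * x * (g⁻¹ : GL (Fin n) F).1) := by
          rw [show g.1 * ((g⁻¹ : GL (Fin n) F).1 * y.1 * g.1 * x) * (g⁻¹ : GL (Fin n) F).1 =
            (g.1 * (g⁻¹ : GL (Fin n) F).1) * y.1 * (g.1 * x * (g⁻¹ : GL (Fin n) F).1) by
              simp only [mul_assoc], hAB, one_mul]
  · intro X hX
    have hX' : ∀ y ∈ N, ((g⁻¹ : GL (Fin n) F).1 * X * g.1) * y.1 =
        y.1 * ((g⁻¹ : GL (Fin n) F).1 * X * g.1) := by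
      intro y hy
      have hy' : g * y * g⁻¹ ∈ N := hN g hg y hy
      have h3 := hX _ hy'
      rw [Units.val_mul, Units.val_mul] at h3
      calc (g⁻¹ : GL (Fin n) F).1 * X * g.1 * y.1
          = (g⁻¹ : GL (Fin n) F).1 * (X * (g.1 * y.1 * (g⁻¹ : GL (Fin n) F).1)) * g.1 := by
            rw [show (g⁻¹ : GL (Fin n) F).1 * (X * (g.1 * y.1 * (g⁻¹ : GL (Fin n) F).1)) * g.1 =
              (g⁻¹ : GL (Fin n) F).1 * X * g.1 * y.1 * ((g⁻¹ : GL (Fin n) F).1 * g.1) by
                simp only [mul_assoc], hBA, mul_one]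
        _ = (g⁻¹ : GL (Fin n) F).1 * (g.1 * y.1 * (g⁻¹ : GL (Fin n) F).1 * X) * g.1 := by rw [h3]
        _ = y.1 * ((g⁻¹ : GL (Fin n) F).1 * X * g.1) := by
            rw [show (g⁻¹ : GL (Fin n) F).1 * (g.1 * y.1 * (g⁻¹ : GL (Fin n) F).1 * X) * g.1 =
              ((g⁻¹ : GL (Fin n) F).1 * g.1) * y.1 * ((g⁻¹ : GL (Fin n) F).1 * X * g.1) by
                simp only [mul_assoc], hBA, one_mul]
    have h3 := hx2 _ hX'
    calc g.1 * x * (g⁻¹ : GL (Fin n) F).1 * X
        = g.1 * (x * ((g⁻¹ : GL (Fin n) F).1 * X * g.1)) * (g⁻¹ : GL (Fin n) F).1 := by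
          rw [show g.1 * (x * ((g⁻¹ : GL (Fin n) F).1 * X * g.1)) * (g⁻¹ : GL (Fin n) F).1 =
            g.1 * x * (g⁻¹ : GL (Fin n) F).1 * X * (g.1 * (g⁻¹ : GL (Fin n) F).1) by
              simp only [mul_assoc], hAB, mul_one]
      _ = g.1 * ((g⁻¹ : GL (Fin n) F).1 * X * g.1 * x) * (g⁻¹ : GL (Fin n) F).1 := by rw [h3]
      _ = X * (g.1 * x * (g⁻¹ : GL (Fin n) F).1) := by
          rw [show g.1 * ((g⁻¹ : GL (Fin n) F).1 * X * g.1 * x) * (g⁻¹ : GL (Fin n) F).1 =
            (g.1 * (g⁻¹ : GL (Fin n) F).1) * X * (g.1 * x * (g⁻¹ : GL (Fin n) F).1) by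
              simp only [mul_assoc], hAB, one_mul]

/-- COREB (Skel statement): homogeneous case, constituent not absolutely irreducible: class 3. -/
theorem coreB [Fintype F] (hn : 1 ≤ n) (G N : Subgroup (GL (Fin n) F)) (hNG : N ≤ G) (hN : Nrm G N)
    {d k : ℕ}
    (e : Fin n ≃ Fin d × Fin k) (P : GL (Fin n) F) (R : Subgroup (GL (Fin d) F))
    (hR : ActsIrreducibly (matrixSet R)) (h1 : ∀ x ∈ N, ∃ y ∈ R, x.1 = tmat e P y.1 1)
    (h2 : ∀ y ∈ R, ∃ x ∈ N, x.1 = tmat e P y.1 1)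
    (hna : ¬ ActsAbsolutelyIrreducibly (matrixSet R)) :
    ∃ (r : ℕ) (K : Subalgebra F (Matrix (Fin n) (Fin n) F)), r.Prime ∧ IsFieldSubalgebra r K ∧
      G ≤ subalgebraNormalizer K ∧
      (∀ z ∈ K, (∀ x ∈ N, z * x.1 = x.1 * z) ∧
        ∀ X : Matrix (Fin n) (Fin n) F, (∀ x ∈ N, X * x.1 = x.1 * X) → z * X = X * z) :=
  coreB_of (fun K => Cfsg.Agent.Lib.Helper87.ASPSF.PSF K) hn G N hNG hN e P R hR h1 h2 hna

end Cfsg.Agent.Lib.Helper82.ASCOREB
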