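import Mathlib
import Cfsg.Prelude.Def_Blocks
import Cfsg.Agent.Lib.Helper82.PReg
import Cfsg.Agent.Lib.Helper83.Quot
import Cfsg.Agent.S4722

/-!
# The principal block and quotients by normal `p'`-subgroups (helper82)

For a normal subgroup `N` of order prime to `p`, inflation is a bijection from the principal
block of `G ⧸ N` onto the principal block of `G` (`principal_bijOn_inflate`).
-/

set_option autoImplicit false

namespace Cfsg.Agent.Lib.Helper82

open Cfsg Cfsg.Agent.Lib.Helper83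
open scoped ComplexConjugate

section PrimeQuot

variable {G : Type*} [Group G] [Fintype G] {p : ℕ} [Fact p.Prime] {M : Ideal AlgInt}

theorem dvd_orderOf_mk_iff (N : Subgroup G) [N.Normal] (hN : (Nat.card N).Coprime p) (g : G) :
    p ∣ orderOf (g : G ⧸ N) ↔ p ∣ orderOf g := by
  constructor
  · intro h
    exact dvd_trans h (orderOf_map_dvd (QuotientGroup.mk' N) g)
  · intro h
    by_contra hq
    have h1 : g ^ orderOf (g : G ⧸ N) ∈ N := by
      rw [← QuotientGroup.eq_one_iff, QuotientGroup.mk_pow, pow_orderOf_eq_one]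
    have h2 : (g ^ orderOf (g : G ⧸ N)) ^ Nat.card N = 1 := by
      have h3 : (⟨g ^ orderOf (g : G ⧸ N), h1⟩ : N) ^ Nat.card N = 1 := pow_card_eq_one'
      have h4 := congrArg (Subtype.val : N → G) h3
      rw [Subgroup.coe_pow, Subgroup.coe_one] at h4
      exact h4
    rw [← pow_mul] at h2
    have h3 := orderOf_dvd_of_pow_eq_one h2
    have h4 := dvd_trans h h3
    have hp : p.Prime := Fact.out
    rcases (Nat.Prime.dvd_mul hp).mp h4 with h5 | h5
    · exact hq h5
    · exact (Nat.Prime.coprime_iff_not_dvd hp).mp hN.symm h5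

theorem pRegInd_mk (N : Subgroup G) [N.Normal] (hN : (Nat.card N).Coprime p) (g : G) :
    pRegInd p (G ⧸ N) (g : G ⧸ N) = pRegInd p G g := by
  by_cases h : p ∣ orderOf g
  · rw [pRegInd_of_sing h, pRegInd_of_sing ((dvd_orderOf_mk_iff N hN g).mpr h)]
  · rw [pRegInd_of_reg h, pRegInd_of_reg (fun h' => h ((dvd_orderOf_mk_iff N hN g).mp h'))]

omit [Fact p.Prime] in
theorem sum_comp_mk (N : Subgroup G) [N.Normal] [Fintype (G ⧸ N)] (f : G ⧸ N → ℂ) :
    ∑ g : G, f (g : G ⧸ N) = (Nat.card N : ℂ) * ∑ q : G ⧸ N, f q := by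
  classical
  letI : Fintype N := Fintype.ofFinite N
  rw [← Finset.sum_fiberwise (s := Finset.univ) (g := fun x : G => (x : G ⧸ N)), Finset.mul_sum]
  refine Finset.sum_congr rfl fun q _ => ?_
  obtain ⟨g₀, rfl⟩ := QuotientGroup.mk_surjective q
  have h1 : ∀ x ∈ Finset.univ.filter (fun x : G => (x : G ⧸ N) = (g₀ : G ⧸ N)),
      f (x : G ⧸ N) = f (g₀ : G ⧸ N) := by
    intro x hx
    rw [(Finset.mem_filter.mp hx).2]
  rw [Finset.sum_congr rfl h1, Finset.sum_const, nsmul_eq_mul]
  congr 1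
  rw [Nat.card_eq_fintype_card, ← Finset.card_univ (α := N)]
  norm_cast
  symm
  refine Finset.card_bij (fun n _ => g₀ * (n : G)) ?_ ?_ ?_
  · intro n _
    rw [Finset.mem_filter]
    refine ⟨Finset.mem_univ _, ?_⟩
    rw [QuotientGroup.eq]
    simp
  · intro a _ b _ h
    exact Subtype.ext (mul_left_cancel h)
  · intro x hx
    have hx' := (Finset.mem_filter.mp hx).2
    refine ⟨⟨g₀⁻¹ * x, ?_⟩, Finset.mem_univ _, by simp⟩
    exact QuotientGroup.eq.mp hx'.symm

/-- For a normal `p'`-subgroup `N`, the inflation of `ψ` lies in the principal block of `G` iff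
`ψ` lies in the principal block of `G ⧸ N`. -/
theorem inflate_mem_principal_iff (hM : IsPModular p M) (N : Subgroup G) [N.Normal]
    [Fintype (G ⧸ N)] (hN : (Nat.card N).Coprime p) (ψ : IrrCharacter (G ⧸ N)) :
    inflate N ψ ∈ principalBlock M G ↔ ψ ∈ principalBlock M (G ⧸ N) := by
  rw [mem_principal_iff_sum_pRegular hM, mem_principal_iff_sum_pRegular hM]
  have h1 : ∑ g : G, pRegInd p G g * (inflate N ψ : G → ℂ) g =
      (Nat.card N : ℂ) * ∑ q : G ⧸ N, pRegInd p (G ⧸ N) q * (ψ : G ⧸ N → ℂ) q := by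
    rw [← sum_comp_mk N (fun q => pRegInd p (G ⧸ N) q * (ψ : G ⧸ N → ℂ) q)]
    refine Finset.sum_congr rfl fun g _ => ?_
    rw [pRegInd_mk N hN g, inflate_apply]
  rw [h1]
  have hc : (Nat.card N : ℂ) ≠ 0 := by exact_mod_cast Nat.card_pos.ne'
  constructor
  · intro h h0
    exact h (by rw [h0, mul_zero])
  · intro h
    exact mul_ne_zero hc h

/-- Inflation is a bijection from the principal block of `G ⧸ N` onto the principal block of
`G`, for a normal `p'`-subgroup `N`. -/
theorem principal_bijOn_inflate (hM : IsPModular p M) (N : Subgroup G) [hNn : N.Normal]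
    [Fintype (G ⧸ N)] (hN : (Nat.card N).Coprime p) :
    Set.BijOn (inflate N) (principalBlock M (G ⧸ N)) (principalBlock M G) := by
  refine ⟨fun ψ hψ => (inflate_mem_principal_iff hM N hN ψ).mpr hψ,
    fun a _ b _ h => inflate_injective N h, fun χ hχ => ?_⟩
  obtain ⟨ψ, hψ⟩ := exists_inflate_eq N χ
    (fun x hx => Cfsg.Agent.S4722.coprime_normal_le_ker hM N hNn hN χ hχ x hx)
  refine ⟨ψ, ?_, hψ⟩
  rw [← hψ] at hχ
  exact (inflate_mem_principal_iff hM N hN ψ).mp hχ

end PrimeQuot

end Cfsg.Agent.Lib.Helper82
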