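import Mathlib

/-! S2134 (helper70), piece CNT: counting a subtype through a labelling by naturals. -/

set_option autoImplicit false

namespace Cfsg.Agent.Lib.Helper82.HeCCNT

/-- PIECE CNT.  Counting a subtype through a labelling by naturals. -/
theorem card_subtype_le_length {X : Type} (F : ℕ → X) (n : ℕ) (hsurj : ∀ x : X, ∃ c < n, F c = x)
    (P : X → Prop) (L : List ℕ) (hL : ∀ c < n, P (F c) → c ∈ L) :
    Nat.card {x : X // P x} ≤ L.length := by
  classical
  choose c hc hF using hsurj
  have hmem : ∀ x : {x : X // P x}, c x.1 ∈ L.toFinset := fun x =>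
    List.mem_toFinset.2 (hL (c x.1) (hc x.1) (by rw [hF]; exact x.2))
  have hinj : Function.Injective (fun x : {x : X // P x} =>
      (⟨c x.1, hmem x⟩ : {k : ℕ // k ∈ L.toFinset})) := by
    intro x y hxy
    have h1 : c x.1 = c y.1 := congrArg Subtype.val hxy
    apply Subtype.ext
    rw [← hF x.1, ← hF y.1, h1]
  have h2 := Nat.card_le_card_of_injective _ hinj
  have h3 : Nat.card {k : ℕ // k ∈ L.toFinset} = L.toFinset.card := by
    rw [Nat.card_eq_fintype_card, Fintype.card_coe]
  rw [h3] at h2
  exact h2.trans (List.toFinset_card_le L)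

end Cfsg.Agent.Lib.Helper82.HeCCNT
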