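import Mathlib
import Cfsg.Agent.Lib.Helper33.BFOne2
import Cfsg.Agent.Lib.Helper22.IndCent2
import Cfsg.Agent.Lib.Helper22.PRatF
import Cfsg.Agent.Lib.Helper80.Galois

/-! Piece DG-GAL1 of helper79's DG project (S4507): a ring automorphism of `ℂ` fixing
`exp (2πi/g')` (`g'` the `p'`-part of `|G|`) acts on irreducible character values as
`g ↦ g ^ k` with `k` coprime to `|G|` and `k ≡ 1 [MOD g']`. -/

set_option autoImplicit false
set_option linter.style.haveILetI false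
set_option maxHeartbeats 1600000

namespace Cfsg.Agent.Lib.Helper82.DG

open Cfsg
open scoped ComplexConjugate

section

variable {G : Type*} [Group G] [Fintype G]

/-- PIECE GAL1 -/
theorem galois_pow (p : ℕ) [Fact p.Prime] (σ : ℂ ≃+* ℂ)
    (hσ : σ (Complex.exp (2 * Real.pi * Complex.I /
        ((Nat.card G / p ^ (Nat.card G).factorization p : ℕ) : ℂ))) =
      Complex.exp (2 * Real.pi * Complex.I /
        ((Nat.card G / p ^ (Nat.card G).factorization p : ℕ) : ℂ))) :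
    ∃ k : ℕ, k.Coprime (Nat.card G) ∧
      k ≡ 1 [MOD Nat.card G / p ^ (Nat.card G).factorization p] ∧
      ∀ (χ : IrrCharacter G) (g : G), σ (χ.1 g) = χ.1 (g ^ k) := by
  obtain ⟨n, hn⟩ : ∃ n, n = Nat.card G := ⟨_, rfl⟩
  obtain ⟨v, hv⟩ : ∃ v, v = (Nat.card G).factorization p := ⟨_, rfl⟩
  obtain ⟨g', hg'⟩ : ∃ g', g' = Nat.card G / p ^ (Nat.card G).factorization p := ⟨_, rfl⟩
  rw [← hg'] at hσ ⊢
  rw [← hv] at hg'
  rw [← hn] at hg' ⊢
  have hnpos : 0 < n := by rw [hn]; exact Nat.card_pos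
  have hpv : p ^ v ∣ n := by rw [hv, hn]; exact Nat.ordProj_dvd _ _
  have hnfac : n = g' * p ^ v := by rw [hg']; exact (Nat.div_mul_cancel hpv).symm
  have hpvpos : 0 < p ^ v := pow_pos (Fact.out : p.Prime).pos v
  have hg'pos : 0 < g' := by
    rcases Nat.eq_zero_or_pos g' with h | h
    · rw [h, zero_mul] at hnfac; omega
    · exact h
  haveI : NeZero n := ⟨hnpos.ne'⟩
  have hζ := Complex.isPrimitiveRoot_exp n hnpos.ne'
  set ζ : ℂ := Complex.exp (2 * Real.pi * Complex.I / (n : ℂ)) with hζdef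
  have hσζ : IsPrimitiveRoot (σ ζ) n := hζ.map_of_injective σ.injective
  obtain ⟨k, hkn, hk⟩ := hζ.eq_pow_of_pow_eq_one hσζ.pow_eq_one
  have hkcop : k.Coprime n := by
    rw [← hζ.pow_iff_coprime hnpos k, hk]
    exact hσζ
  have hω : Complex.exp (2 * Real.pi * Complex.I / (g' : ℂ)) = ζ ^ (p ^ v) := by
    rw [hζdef, ← Complex.exp_nat_mul, hnfac]
    congr 1
    have h1 : (g' : ℂ) ≠ 0 := by exact_mod_cast hg'pos.ne'
    have h2 : ((p ^ v : ℕ) : ℂ) ≠ 0 := by exact_mod_cast hpvpos.ne'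
    push_cast
    push_cast at h2
    field_simp
  have hmod : k ≡ 1 [MOD g'] := by
    rw [hω, map_pow, ← hk, ← pow_mul] at hσ
    have h3 : k * p ^ v ≡ p ^ v [MOD n] := by
      have hfin : IsOfFinOrder ζ := isOfFinOrder_iff_pow_eq_one.2 ⟨n, hnpos, hζ.pow_eq_one⟩
      have := (hfin.pow_eq_pow_iff_modEq (n := k * p ^ v) (m := p ^ v)).1 hσ
      rwa [← hζ.eq_orderOf] at this
    have h4 : k * p ^ v ≡ 1 * p ^ v [MOD g' * p ^ v] := by
      rw [one_mul, ← hnfac]; exact h3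
    exact Nat.ModEq.mul_right_cancel' hpvpos.ne' h4
  refine ⟨k, hkcop, hmod, ?_⟩
  intro χ g
  obtain ⟨m, ρ, -, hρ⟩ := χ.2
  rw [← hρ]
  have hgn : g ^ n = 1 := by rw [hn]; exact pow_card_eq_one'
  exact Cfsg.Agent.Lib.Helper22.PRat.tau_character σ n k hnpos hk.symm ρ g hgn

end

end Cfsg.Agent.Lib.Helper82.DG
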