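import Mathlib
import Cfsg.Prelude.Def_Solvable
import Cfsg.Agent.Lib.Helper55.Basic
import Cfsg.Agent.Lib.Helper31.Basic
import Cfsg.Agent.Lib.Helper81.PSolv2
import Cfsg.Agent.Lib.Helper29.BaerP2

/-!
# S4125 piece P3 (for helper80): `q`-length one
-/

set_option autoImplicit false

namespace Cfsg.Agent.Lib.Helper82

variable {G : Type*} [Group G] [Finite G]

theorem qlength_one (q : ℕ) [Fact q.Prime]
    (hBaer : ∀ x : G, (∃ k : ℕ, orderOf x = q ^ k) → ∃ (r : ℕ) (a : ℕ), r.Prime ∧ (Subgroup.centralizer ({x} : Set G)).index = r ^ a) :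
    ∃ K L : Subgroup G, K.Normal ∧ L.Normal ∧ K ≤ L ∧ (Nat.card K).Coprime q ∧ (∃ m : ℕ, K.relIndex L = q ^ m) ∧ L.index.Coprime q := by
  have hq : q.Prime := Fact.out
  obtain ⟨K, hKdef⟩ : ∃ K : Subgroup G, K = Cfsg.pPrimeCore q G := ⟨_, rfl⟩
  haveI hKn : K.Normal := by rw [hKdef]; exact Cfsg.Agent.Lib.Helper81.pPrimeCore_normal q
  have hKcop : (Nat.card K).Coprime q := by
    rw [hKdef]; exact Cfsg.Agent.Lib.Helper31.pPrimeCore_coprime q
  obtain ⟨L, hLdef⟩ : ∃ L : Subgroup G,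
      L = (Cfsg.pCore q (G ⧸ K)).comap (QuotientGroup.mk' K) := ⟨_, rfl⟩
  have hLn : L.Normal := by
    rw [hLdef]
    exact (Cfsg.Agent.Lib.Helper55.pCore_normal (G := G ⧸ K) (p := q)).comap _
  have hKL : K ≤ L := by
    rw [hLdef]
    intro k hk
    rw [Subgroup.mem_comap]
    have : (QuotientGroup.mk' K) k = 1 := by
      rw [QuotientGroup.mk'_apply, QuotientGroup.eq_one_iff]; exact hk
    rw [this]
    exact one_mem _
  refine ⟨K, L, hKn, hLn, hKL, hKcop, ?_, ?_⟩
  · -- the relative index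
    obtain ⟨m, hm⟩ := IsPGroup.iff_card.mp
      (Cfsg.Agent.Lib.Helper55.pCore_isPGroup (G := G ⧸ K) (p := q))
    refine ⟨m, ?_⟩
    have hmap : L.map (QuotientGroup.mk' K) = Cfsg.pCore q (G ⧸ K) := by
      rw [hLdef]
      exact Subgroup.map_comap_eq_self_of_surjective (QuotientGroup.mk'_surjective K) _
    have h1 : (L.map (QuotientGroup.mk' K)).index = L.index :=
      Subgroup.index_map_eq L (QuotientGroup.mk'_surjective K)
        (by rw [QuotientGroup.ker_mk']; exact hKL)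
    have h2 := Subgroup.card_mul_index L
    have h3 := Subgroup.card_mul_index (L.map (QuotientGroup.mk' K))
    have h4 := Subgroup.card_eq_card_quotient_mul_card_subgroup K
    have h5 : 0 < L.index := Nat.pos_of_ne_zero Subgroup.index_ne_zero_of_finite
    rw [h1, hmap, hm] at h3
    have h6 := Subgroup.relIndex_mul_index hKL
    have h7 := Subgroup.card_mul_index K
    have hKpos : 0 < Nat.card K := Nat.card_pos
    -- |K| * relIndex * L.index = |G| = |G/K| * |K| = q^m * L.index * |K|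
    have h8 : Nat.card K * (K.relIndex L * L.index) = Nat.card K * (q ^ m * L.index) := by
      rw [h6, h7, h4, ← h3]; ring
    have h9 := Nat.eq_of_mul_eq_mul_left hKpos h8
    exact Nat.eq_of_mul_eq_mul_right h5 h9
  · -- the index of L is prime to q
    obtain ⟨Q⟩ : Nonempty (Sylow q G) := inferInstance
    have hQL : (Q : Subgroup G) ≤ L := by
      intro x hx
      rw [hLdef, Subgroup.mem_comap]
      obtain ⟨k, hk⟩ := (IsPGroup.iff_orderOf.mp Q.isPGroup') ⟨x, hx⟩
      have hxq : ∃ k : ℕ, orderOf x = q ^ k := ⟨k, by rw [← hk, Subgroup.orderOf_mk]⟩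
      obtain ⟨r, a, hr, hi⟩ := hBaer x hxq
      refine Cfsg.Agent.Lib.Helper29.qelt_image_mem_pCore q K x hxq r a hr hi ?_
      intro hrq
      rw [hKdef]
      refine Cfsg.Agent.Lib.Helper31.le_pPrimeCore Cfsg.Agent.Lib.Helper55.pCore_normal ?_
      haveI : Fact r.Prime := ⟨hr⟩
      obtain ⟨j, hj⟩ := IsPGroup.iff_card.mp
        (Cfsg.Agent.Lib.Helper55.pCore_isPGroup (G := G) (p := r))
      rw [hj]
      exact Nat.Coprime.pow_left j ((Nat.coprime_primes hr hq).mpr hrq)
    have hdvd : L.index ∣ (Q : Subgroup G).index := Subgroup.index_dvd_of_le hQL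
    have hnd : ¬ q ∣ (Q : Subgroup G).index := Q.not_dvd_index
    exact (Nat.Coprime.coprime_dvd_left hdvd ((Nat.Prime.coprime_iff_not_dvd hq).mpr hnd).symm)

end Cfsg.Agent.Lib.Helper82
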