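import Mathlib

/-! Project EP (helper7, S5746): piece EP-CERT (`EPCERT`), insurance copy by helper82. -/

set_option autoImplicit false

namespace Cfsg.Agent.Lib.Helper7.EP

theorem EPCERT {X : Type*} [Group X] {n : ℕ} (ρ : X →* Equiv.Perm (Fin n)) (S : Set X)
    (c : Fin n → ℕ) (rep : ℕ → Fin n)
    (hinvS : ∀ s ∈ S, ∀ i, c (ρ s i) = c i)
    (hpath : ∀ i : Fin n, ∃ l ∈ Subgroup.closure S, ρ l (rep (c i)) = i) :
    (∀ l ∈ Subgroup.closure S, ∀ i, c (ρ l i) = c i) ∧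
    (∀ i j, c i = c j → ∃ l ∈ Subgroup.closure S, ρ l i = j) := by
  have h1 : ∀ l ∈ Subgroup.closure S, ∀ i, c (ρ l i) = c i := by
    intro l hl
    induction hl using Subgroup.closure_induction with
    | mem s hs => exact hinvS s hs
    | one =>
      intro i
      rw [map_one, Equiv.Perm.one_apply]
    | mul a b _ _ iha ihb =>
      intro i
      rw [map_mul, Equiv.Perm.mul_apply, iha, ihb]
    | inv a _ iha =>
      intro i
      have h := iha (ρ a⁻¹ i)
      rw [← Equiv.Perm.mul_apply, ← map_mul, mul_inv_cancel, map_one, Equiv.Perm.one_apply] at h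
      exact h.symm
  refine ⟨h1, ?_⟩
  intro i j hij
  obtain ⟨l1, hl1, e1⟩ := hpath i
  obtain ⟨l2, hl2, e2⟩ := hpath j
  refine ⟨l2 * l1⁻¹, mul_mem hl2 (inv_mem hl1), ?_⟩
  rw [map_mul, Equiv.Perm.mul_apply]
  have h : ρ l1⁻¹ i = rep (c i) := by
    rw [map_inv, Equiv.Perm.inv_eq_iff_eq]
    exact e1.symm
  rw [h, hij, e2]

end Cfsg.Agent.Lib.Helper7.EP
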