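import Mathlib
import Cfsg.Agent.Lib.Helper48.McA
import Cfsg.Agent.Lib.Helper48.McTwo
import Cfsg.Agent.S2431

/-!
# S2436 piece TWOB (helper82 for helper48; superseded by `Helper48/McTwoB.lean`, kept as an
independent duplicate in its own namespace)

`mk (normalizer S) 2 = 4` for a Sylow 2-subgroup `S` of `SL₂(q)`, `q ≡ 3, 5 mod 8`, relative to the
pieces ORD24 and COMM3 (given as explicit hypotheses `hORD24`, `hCOMM3`, stated verbatim as in the
skeleton at the universe of `F`).
-/

set_option autoImplicit false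

namespace Cfsg.Agent.Lib.Helper82.McTWOB

open Cfsg Cfsg.Agent.Lib.Helper48 Cfsg.Agent.Lib.Helper48.Mc
open Cfsg.Agent.S2429 (SL Tns)
open Cfsg.Agent.S2433 (Bor)

universe u v

section Subgroups

/-- piece TWOB, relative to ORD24 and COMM3. -/
theorem mk_normalizer_two_b_of {F : Type u} [Field F] [Fintype F]
    (hORD24 : ∀ {N : Type u} [Group N] [Finite N], Nat.card N = 24 →
      (commutator N).index = 3 → mk N 2 = 4)
    (hCOMM3 : ∀ {N : Type u} [Group N] [Finite N] (S : Subgroup N) [S.Normal],
      Nat.card S = 8 → Nat.card N = 24 →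
      (∀ s ∈ S, ∀ t ∈ S, s ^ 2 = 1 → t ^ 2 = 1 → s ≠ 1 → t ≠ 1 → s = t) →
      (∀ x : N, (∀ s ∈ S, x * s = s * x) → x ^ 2 = 1) → (commutator N).index = 3)
    (hodd : Odd (Fintype.card F)) (S : Sylow 2 (SL F))
    (h8 : Fintype.card F % 8 = 3 ∨ Fintype.card F % 8 = 5) :
    mk ↥(Subgroup.normalizer ((S : Subgroup (SL F)) : Set (SL F))) 2 = 4 := by
  classical
  obtain ⟨hcen, -, hidx⟩ := Cfsg.Agent.S2431.result hodd S
  have hS8 : Nat.card S = 8 := sylow_two_card_eight hodd S h8
  have hN24 : Nat.card ↥(Subgroup.normalizer ((S : Subgroup (SL F)) : Set (SL F))) = 24 := by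
    have := hidx h8
    rw [hS8] at this
    exact this
  have hle : (S : Subgroup (SL F)) ≤ Subgroup.normalizer ((S : Subgroup (SL F)) : Set (SL F)) :=
    Subgroup.le_normalizer
  have hS'8 : Nat.card ↥((S : Subgroup (SL F)).subgroupOf
      (Subgroup.normalizer ((S : Subgroup (SL F)) : Set (SL F)))) = 8 := by
    rw [Nat.card_congr (Subgroup.subgroupOfEquivOfLe hle).toEquiv]
    exact hS8
  haveI : ((S : Subgroup (SL F)).subgroupOf
      (Subgroup.normalizer ((S : Subgroup (SL F)) : Set (SL F)))).Normal :=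
    Subgroup.normal_in_normalizer
  have hinv : ∀ s ∈ (S : Subgroup (SL F)).subgroupOf
        (Subgroup.normalizer ((S : Subgroup (SL F)) : Set (SL F))),
      ∀ t ∈ (S : Subgroup (SL F)).subgroupOf
        (Subgroup.normalizer ((S : Subgroup (SL F)) : Set (SL F))),
      s ^ 2 = 1 → t ^ 2 = 1 → s ≠ 1 → t ≠ 1 → s = t := by
    intro s _ t _ hs2 ht2 hs1 ht1
    have hs2' : (s : SL F) ^ 2 = 1 := by
      have := congrArg Subtype.val hs2
      simpa using this
    have ht2' : (t : SL F) ^ 2 = 1 := by
      have := congrArg Subtype.val ht2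
      simpa using this
    have hs : (s : SL F) = -1 := by
      rcases sl2_sq_eq_one hodd _ hs2' with h | h
      · exact absurd (Subtype.ext h) hs1
      · exact h
    have ht : (t : SL F) = -1 := by
      rcases sl2_sq_eq_one hodd _ ht2' with h | h
      · exact absurd (Subtype.ext h) ht1
      · exact h
    exact Subtype.ext (hs.trans ht.symm)
  have hcent : ∀ x : ↥(Subgroup.normalizer ((S : Subgroup (SL F)) : Set (SL F))),
      (∀ s ∈ (S : Subgroup (SL F)).subgroupOf
        (Subgroup.normalizer ((S : Subgroup (SL F)) : Set (SL F))), x * s = s * x) →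
      x ^ 2 = 1 := by
    intro x hx
    have hxc : (x : SL F) ∈ Subgroup.centralizer ((S : Subgroup (SL F)) : Set (SL F)) := by
      rw [Subgroup.mem_centralizer_iff]
      intro s hs
      have := hx ⟨s, hle hs⟩ (by rw [Subgroup.mem_subgroupOf]; exact hs)
      have h2 := congrArg Subtype.val this
      simpa using h2.symm
    rw [hcen] at hxc
    have := sl2_center_sq (x : SL F) hxc
    apply Subtype.ext
    simpa using this
  exact hORD24 hN24 (hCOMM3 _ hS'8 hN24 hinv hcent)

end Subgroups

end Cfsg.Agent.Lib.Helper82.McTWOB
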