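import Mathlib
import Cfsg.Agent.Lib.Helper44.PU3Defs

/-! Project PU3 (S2784 + S2786, architect helper44), piece PIGODD: the norm equation, `q` odd. -/

set_option autoImplicit false

namespace Cfsg.Agent.Lib.Helper44.PU3

open Matrix Cfsg.Agent.Lib.Helper7

/-- the fixed subfield of `x ↦ x ^ q` -/
def pu3pigodd_fix {F : Type*} [Field F] [Fintype F] {q : ℕ} (hF : Fintype.card F = q ^ 2)
    (hq : Odd q) : Subfield F where
  carrier := {x | x ^ q = x}
  mul_mem' := by
    intro a b ha hb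
    have ha' : a ^ q = a := ha
    have hb' : b ^ q = b := hb
    show (a * b) ^ q = a * b
    rw [mul_pow, ha', hb']
  one_mem' := one_pow q
  add_mem' := by
    intro a b ha hb
    have ha' : a ^ q = a := ha
    have hb' : b ^ q = b := hb
    show (a + b) ^ q = a + b
    rw [herm_add_pow hF, ha', hb']
  zero_mem' := zero_pow (herm_q_ne_zero hF)
  neg_mem' := by
    intro a ha
    have ha' : a ^ q = a := ha
    show (-a) ^ q = -a
    rw [Odd.neg_pow hq, ha']
  inv_mem' := by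
    intro a ha
    have ha' : a ^ q = a := ha
    show (a⁻¹) ^ q = a⁻¹
    rw [inv_pow, ha']

theorem pu3pigodd_mem_fix {F : Type*} [Field F] [Fintype F] {q : ℕ}
    (hF : Fintype.card F = q ^ 2) (hq : Odd q) (x : F) :
    x ∈ pu3pigodd_fix hF hq ↔ x ^ q = x := Iff.rfl

theorem pu3pigodd_two_ne_zero {F : Type*} [Field F] [Fintype F] {q : ℕ}
    (hF : Fintype.card F = q ^ 2) (hq : Odd q) : (2 : F) ≠ 0 := by
  apply Ring.two_ne_zero
  intro h
  have h0 := FiniteField.even_card_of_char_two h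
  rw [hF] at h0
  have : Odd (q ^ 2) := hq.pow
  rw [Nat.odd_iff] at this
  omega

/-- every fixed element is a sum of two squares of fixed elements -/
theorem pu3pigodd_sq {F : Type*} [Field F] [Fintype F] {q : ℕ} (hF : Fintype.card F = q ^ 2)
    (hq : Odd q) (κ : F) (hκ : κ ^ q = κ) :
    ∃ X Y : F, X ^ q = X ∧ Y ^ q = Y ∧ X ^ 2 + Y ^ 2 = κ := by
  classical
  haveI : Fintype (pu3pigodd_fix hF hq) := Fintype.ofFinite _
  have h2 : (2 : F) ≠ 0 := pu3pigodd_two_ne_zero hF hq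
  have hcard : Fintype.card (pu3pigodd_fix hF hq) % 2 = 1 := by
    apply FiniteField.odd_card_of_char_ne_two
    intro h
    have h0 : ((ringChar (pu3pigodd_fix hF hq) : ℕ) : pu3pigodd_fix hF hq) = 0 :=
      ringChar.Nat.cast_ringChar
    rw [h] at h0
    apply h2
    have h0' : (2 : pu3pigodd_fix hF hq) = 0 := by exact_mod_cast h0
    have := congrArg (pu3pigodd_fix hF hq).subtype h0'
    rw [map_ofNat, map_zero] at this
    exact this
  have hf : (Polynomial.X ^ 2 : Polynomial (pu3pigodd_fix hF hq)).degree = 2 :=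
    Polynomial.degree_X_pow 2
  have hg : (Polynomial.X ^ 2 - Polynomial.C (⟨κ, hκ⟩ : pu3pigodd_fix hF hq) :
      Polynomial (pu3pigodd_fix hF hq)).degree = 2 :=
    Polynomial.degree_X_pow_sub_C (by norm_num) _
  obtain ⟨a, b, hab⟩ := FiniteField.exists_root_sum_quadratic hf hg hcard
  refine ⟨a, b, a.2, b.2, ?_⟩
  have := congrArg Subtype.val hab
  simp only [Polynomial.eval_pow, Polynomial.eval_X, Polynomial.eval_sub, Polynomial.eval_C] at this
  have h' : (a : F) ^ 2 + ((b : F) ^ 2 - κ) = 0 := by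
    simpa using this
  linear_combination h'

theorem pu3_pigodd {F : Type*} [Field F] [Fintype F] (q : ℕ) : PigOddStmt F q := by
  intro hF hq t ht
  have h2 : (2 : F) ≠ 0 := pu3pigodd_two_ne_zero hF hq
  have hm := pu3pigodd_mem_fix hF hq
  have htq : t ^ q ∈ pu3pigodd_fix hF hq → False := by
    intro h
    have h1 : (t ^ q) ^ q = t ^ q := (hm _).1 h
    rw [herm_pow_pow hF] at h1
    exact ht h1.symm
  have hT : t + t ^ q ∈ pu3pigodd_fix hF hq := by
    rw [hm, herm_add_pow hF, herm_pow_pow hF, add_comm]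
  have hN : t * t ^ q ∈ pu3pigodd_fix hF hq := by
    rw [hm, mul_pow, herm_pow_pow hF, mul_comm]
  have h2m : (2 : F) ∈ pu3pigodd_fix hF hq := by
    rw [← one_add_one_eq_two]
    exact add_mem (one_mem _) (one_mem _)
  have h4m : (4 : F) ∈ pu3pigodd_fix hF hq := by
    have : (4 : F) = 2 + 2 := by norm_num
    rw [this]
    exact add_mem h2m h2m
  obtain ⟨h, hh, hhm⟩ : ∃ h : F, 2 * h = 4 + (t + t ^ q) ∧ h ∈ pu3pigodd_fix hF hq := by
    refine ⟨(4 + (t + t ^ q)) / 2, by field_simp, ?_⟩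
    exact div_mem (add_mem h4m hT) h2m
  have hκm : 2 * h ^ 2 - (4 + 2 * (t + t ^ q) + t * t ^ q) ∈ pu3pigodd_fix hF hq :=
    sub_mem (mul_mem h2m (pow_mem hhm 2)) (add_mem (add_mem h4m (mul_mem h2m hT)) hN)
  obtain ⟨X, Y, hX, hY, hXY⟩ := pu3pigodd_sq hF hq _ ((hm _).1 hκm)
  have hXm : X ∈ pu3pigodd_fix hF hq := (hm _).2 hX
  have hYm : Y ∈ pu3pigodd_fix hF hq := (hm _).2 hY
  have hxm : X + h ∈ pu3pigodd_fix hF hq := add_mem hXm hhm
  have hym : Y + h ∈ pu3pigodd_fix hF hq := add_mem hYm hhm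
  have hzm : (-2 : F) ∈ pu3pigodd_fix hF hq := neg_mem h2m
  have hsm : (X + h) + (Y + h) + (-2 : F) ∈ pu3pigodd_fix hF hq := add_mem (add_mem hxm hym) hzm
  have hs : ((X + h) + (Y + h) + (-2 : F)) ^ q = (X + h) + (Y + h) + (-2 : F) := (hm _).1 hsm
  have key : (t - ((X + h) + (Y + h) + (-2 : F))) ^ (q + 1) = -((X + h) * (Y + h) * (-2 : F)) := by
    rw [pow_succ', herm_sub_pow hF, hs]
    linear_combination hXY + (X + Y + 2 * h) * hh
  have hne : (X + h) * (Y + h) * (-2 : F) ≠ 0 := by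
    intro h0
    rw [h0, neg_zero] at key
    have h1 : t - ((X + h) + (Y + h) + (-2 : F)) = 0 := pow_eq_zero_iff (by omega) |>.1 key
    have h3 : t = (X + h) + (Y + h) + (-2 : F) := sub_eq_zero.1 h1
    apply ht
    rw [h3]
    exact hs
  refine ⟨X + h, Y + h, -2, (hm _).1 hxm, (hm _).1 hym, (hm _).1 hzm, ?_, ?_, ?_, key⟩
  · intro h0; apply hne; rw [h0]; ring
  · intro h0; apply hne; rw [h0]; ring
  · intro h0; apply hne; rw [h0]; ring

end Cfsg.Agent.Lib.Helper44.PU3
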