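import Mathlib
import Cfsg.Agent.Lib.Helper11.S983Tools
import Cfsg.Agent.Lib.Helper23.SimpleGen

/-!
# S0983 piece N5400A (helper82 for helper11): the local structure at an element of order 5 in a
simple group of order 5400
-/

set_option autoImplicit false

namespace Cfsg.Agent.S983

open Cfsg.Agent.Lib.Helper23

set_option maxRecDepth 100000 in
theorem n5400a_cands : candsPow 5400 5 2 = [36] := by decide +kernel

/-- pure arithmetic for the pair (number of Sylows through `x`, order of `C(x) ⊓ N(Q)`) -/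
theorem n5400a_arith (f k : ℕ) (hf : f % 5 = 1) (hk25 : 25 ∣ k) (hk150 : k ∣ 150)
    (hle : f * k ≤ 540) (hdvd : f * k ∣ 5400) :
    f = 1 ∨ (f = 6 ∧ k = 50) ∨ (f = 6 ∧ k = 25) ∨ (f = 6 ∧ k = 75) := by
  obtain ⟨c, rfl⟩ := hk25
  have hc0 : 0 < c := by
    rcases Nat.eq_zero_or_pos c with h0 | h0
    · subst h0
      simp at hk150
    · exact h0
  have hc6 : c ≤ 6 := by
    have := Nat.le_of_dvd (by norm_num) hk150
    omega
  have hf21 : f ≤ 21 := by nlinarith
  interval_cases c <;> interval_cases f <;> revert hf hk150 hle hdvd <;> decide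

theorem n5400a_arith2 (n j : ℕ) (hj : j = 3 ∨ j = 9) (h1 : n ∣ j) (h2 : n % 5 = 1)
    (h3 : 1 < n) : False := by
  rcases hj with rfl | rfl
  · have := Nat.le_of_dvd (by norm_num) h1
    interval_cases n <;> revert h1 h2 <;> decide
  · have := Nat.le_of_dvd (by norm_num) h1
    interval_cases n <;> revert h1 h2 <;> decide

/-- two distinct Sylow 5-subgroups of order 25 cannot lie in a subgroup of order 150 or 450 -/
theorem n5400a_step5 {G : Type*} [Group G] [Finite G] [Fact (Nat.Prime 5)]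
    (hcard : ∀ R : Sylow 5 G, Nat.card (R : Subgroup G) = 25)
    (H : Subgroup G) (m : ℕ) (hm : m = 75 ∨ m = 225) (hH : Nat.card H = 2 * m)
    (R1 R2 : Sylow 5 G) (hne : R1 ≠ R2) (h1 : (R1 : Subgroup G) ≤ H)
    (h2 : (R2 : Subgroup G) ≤ H) : False := by
  obtain ⟨K, -, hKc, hK⟩ := exists_odd_index_two_subgroup H m hH
    (by rcases hm with rfl | rfl <;> norm_num)
  have hR : ∀ R : Sylow 5 G, (R : Subgroup G) ≤ H → (R : Subgroup G) ≤ K := by
    intro R hRH y hy
    apply hK y (hRH hy)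
    refine ⟨25, by decide, ?_⟩
    have h3 : (⟨y, hy⟩ : (R : Subgroup G)) ^ Nat.card (R : Subgroup G) = 1 := pow_card_eq_one'
    rw [hcard R] at h3
    exact congrArg Subtype.val h3
  obtain ⟨j, hj1, hj2, hj3, hj4⟩ :=
    card_sylow_subgroup_facts K R1 R2 (hR R1 h1) (hR R2 h2) hne
  rw [hKc, hcard R1] at hj1
  exact n5400a_arith2 _ j (by rcases hm with rfl | rfl <;> omega) hj2 hj3 hj4

theorem n5400_local {G : Type*} [Group G] [Finite G] [IsSimpleGroup G] (h : Nat.card G = 5400)
    [Fact (Nat.Prime 5)] (Q : Sylow 5 G) (x : G) (hx : x ∈ (Q : Subgroup G)) (hx1 : x ≠ 1) :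
    {R : Sylow 5 G | x ∈ (R : Subgroup G)}.ncard = 1 ∨
    ({R : Sylow 5 G | x ∈ (R : Subgroup G)}.ncard = 6 ∧
      Nat.card (Subgroup.centralizer ({x} : Set G) ⊓
        Subgroup.normalizer ((Q : Subgroup G) : Set G) : Subgroup G) = 50) := by
  have hG : ¬ IsMulCommutative G :=
    not_comm_of_simple_of_not_prime (by rw [h]; norm_num)
  have h1 : Nat.card G = 5 ^ 2 * 216 := h.trans (by norm_num)
  have hm : ¬ 5 ∣ 216 := by norm_num
  have hn5 : Nat.card (Sylow 5 G) = 36 := by
    have hmem := mem_candsPow hG h (show 5400 = 5 ^ 2 * 216 by norm_num) hm (le_refl 2)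
    rw [n5400a_cands] at hmem
    simpa using hmem
  have hcard : ∀ R : Sylow 5 G, Nat.card (R : Subgroup G) = 25 := by
    intro R
    have h2 := sylow_card_of_eq h1 hm R
    norm_num at h2
    exact h2
  have hcomm : ∀ R : Sylow 5 G, IsMulCommutative (R : Subgroup G) := by
    intro R
    exact IsPGroup.isMulCommutative_of_card_eq_prime_sq (p := 5) (by rw [hcard R]; norm_num)
  have hNQ : Nat.card (Subgroup.normalizer ((Q : Subgroup G) : Set G)) = 150 := by
    have h2 := card_normalizer_sylow_mul Q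
    rw [hn5, h] at h2
    omega
  -- the centralizer of `x` and the Sylow subgroups through `x`
  generalize hHdef : Subgroup.centralizer ({x} : Set G) = H
  generalize hFdef : {R : Sylow 5 G | x ∈ (R : Subgroup G)} = F
  have hFmem : ∀ R : Sylow 5 G, R ∈ F ↔ x ∈ (R : Subgroup G) := by
    intro R
    rw [← hFdef]
    exact Iff.rfl
  have hQF : Q ∈ F := (hFmem Q).mpr hx
  have hFH : ∀ R ∈ F, (R : Subgroup G) ≤ H := by
    intro R hR y hy
    rw [← hHdef, Subgroup.mem_centralizer_iff]
    intro z hz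
    rw [Set.mem_singleton_iff] at hz
    subst hz
    have hc := (hcomm R).is_comm.comm (⟨z, (hFmem R).mp hR⟩ : (R : Subgroup G)) ⟨y, hy⟩
    exact congrArg Subtype.val hc
  have hinv : ∀ d ∈ H, ∀ R ∈ F, d • R ∈ F := by
    intro d hd R hR
    rw [hFmem, Cfsg.Agent.S4274T.t2_mem_smul_iff]
    rw [← hHdef] at hd
    have hdx : x * d = d * x := (Subgroup.mem_centralizer_iff.mp hd) x (Set.mem_singleton x)
    have h2 : d⁻¹ * x * d = x := by
      rw [mul_assoc, hdx, ← mul_assoc, inv_mul_cancel, one_mul]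
    rw [h2]
    exact (hFmem R).mp hR
  have horb := Cfsg.Agent.Lib.Helper76.SylPrime.card_eq_of_orbit Q H F hQF hinv hFH
  have hmod : F.ncard % 5 = 1 :=
    Cfsg.Agent.Lib.Helper76.SylPrime.ncard_mod_of_mem Q F
      (fun y hy R hR => hinv y (hFH Q hQF hy) R hR) hQF
  generalize hkdef :
    Nat.card (H ⊓ Subgroup.normalizer ((Q : Subgroup G) : Set G) : Subgroup G) = k at horb
  have hk25 : 25 ∣ k := by
    have hle : (Q : Subgroup G) ≤ H ⊓ Subgroup.normalizer ((Q : Subgroup G) : Set G) :=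
      le_inf (hFH Q hQF) Subgroup.le_normalizer
    have h2 := Subgroup.card_dvd_of_le hle
    rwa [hcard Q, hkdef] at h2
  have hk150 : k ∣ 150 := by
    have h2 := Subgroup.card_dvd_of_le
      (inf_le_right : H ⊓ Subgroup.normalizer ((Q : Subgroup G) : Set G) ≤ _)
    rwa [hNQ, hkdef] at h2
  have hHtop : H ≠ ⊤ := hHdef ▸ simple_centralizer_ne_top hG hx1
  have hHidx : 10 ≤ H.index := by
    have h2 := simple_two_mul_card_dvd_factorial hG H hHtop
    rw [h] at h2
    by_contra hlt
    have hlt' : H.index < 10 := Nat.lt_of_not_le hlt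
    interval_cases H.index <;> revert h2 <;> decide
  have hHmul := Subgroup.card_mul_index H
  rw [h] at hHmul
  have hHle : Nat.card H ≤ 540 := by nlinarith
  have hHdvd : Nat.card H ∣ 5400 := by
    rw [← h]
    exact Subgroup.card_subgroup_dvd_card H
  rw [horb] at hHle hHdvd
  have hpair : ∀ m : ℕ, (m = 75 ∨ m = 225) → Nat.card H = 2 * m → F.ncard = 6 → False := by
    intro m hm' hHm hf
    have h2 : 1 < F.ncard := by rw [hf]; norm_num
    obtain ⟨R1, R2, hR1, hR2, hne⟩ := (Set.one_lt_ncard_iff (Set.toFinite F)).mp h2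
    exact n5400a_step5 hcard H m hm' hHm R1 R2 hne (hFH R1 hR1) (hFH R2 hR2)
  rcases n5400a_arith F.ncard k hmod hk25 hk150 hHle hHdvd with
    hf | ⟨hf, hk⟩ | ⟨hf, hk⟩ | ⟨hf, hk⟩
  · left
    exact hf
  · right
    exact ⟨hf, hk⟩
  · exfalso
    exact hpair 75 (Or.inl rfl) (by rw [horb, hf, hk]) hf
  · exfalso
    exact hpair 225 (Or.inr rfl) (by rw [horb, hf, hk]) hf

end Cfsg.Agent.S983
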